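import Cfsg.Agent.OrdDiv.Table
import Cfsg.Agent.H341.ThreeList_m3
import Cfsg.Agent.H915.GNDefs_m3
import Cfsg.Prelude.Def_LieTypeChar
import Cfsg.Agent.H264.FKS.Res_m3
import Cfsg.Agent.H149.Sp.Quot
import Cfsg.Agent.S2119
import Cfsg.Agent.H824.ProdLem
import Cfsg.Agent.H867.TitsOut
import Cfsg.Agent.H278.Cov.Defs
import Cfsg.Agent.H884.ElO8
import Cfsg.Agent.H264.FKS.ResCore
import Cfsg.Agent.H264.FKS.TwoCl
import Cfsg.Agent.ClassicalGeometry.TwoFamilies
import Cfsg.Agent.H906.Cover_m3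
import Cfsg.Agent.OddHalf.Known
import Cfsg.Agent.H936.List12c
import Cfsg.Agent.H806.LsFiLe
import Cfsg.Agent.Prune
set_option linter.all false

section
prune_inst 0x7f00000000000000000000000000000000000000000000000000000000000000000000000000000000000000000000000000000000000000000000000000000000000000000000000000000000000000003fffffffffffffffffffffffffffaeffbdffffffff

section
prune_inst 0x10000000000000

-- part: H659/O8/Named
section
set_option linter.all false
open scoped Cfsg.Agent.FastGrp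

/-!
# Names of the groups of Lie type in characteristic `p` (helper659)
-/

set_option autoImplicit false

namespace Cfsg.Agent.H659.O8

open Cfsg Cfsg.Agent.OrdDiv Cfsg.Agent.H436 Cfsg.Agent.H915.GN

universe u

variable {p : ℕ}

theorem exists_pow {p q n k : ℕ} (hp : p.Prime) (hn : n ≠ 0) (h : q ^ n = p ^ k) : ∃ f, q = p ^ f := by
  have h1 : q ∣ p ^ k := by rw [← h]; exact dvd_pow_self q hn
  obtain ⟨f, -, hf⟩ := (Nat.dvd_prime_pow hp).1 h1
  exact ⟨f, hf⟩

theorem exists_pow_card (F : Type) [Field F] [Fintype F] [CharP F p] : ∃ f, Fintype.card F = p ^ f := by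
  obtain ⟨n, -, hn⟩ := FiniteField.card F p
  exact ⟨n, hn⟩

/-- **A group of Lie type in characteristic `p` has a name of characteristic `p`.** -/
theorem named_of_lie (hp : p.Prime) {S : Type u} [Group S] (h : IsLieTypeChar p S) :
    ∃ g, IsNamed g S ∧ HasChar p g := by
  have T : OrderTable.{u} := table
  rcases h with h | h | h | h | h | h | h | h | h | h | h
  · obtain ⟨F, _, _, _, n, hn, hn2, ⟨e⟩⟩ := h
    refine ⟨.psl n (Fintype.card F), .mk' ⟨F, inferInstance, inferInstance, rfl, ⟨e⟩⟩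
      ⟨hn, hn2, Fintype.isPrimePow_card_of_field⟩ ?_, exists_pow_card F⟩
    rw [Nat.card_congr e.toEquiv]
    exact psl_eq hn
  · obtain ⟨F, _, _, _, n, hn, hn2, ⟨e⟩⟩ := h
    refine ⟨.psp n (Fintype.card F), .mk' ⟨F, inferInstance, inferInstance, rfl, ⟨e⟩⟩
      ⟨hn, hn2, Fintype.isPrimePow_card_of_field⟩ ?_, exists_pow_card F⟩
    rw [Nat.card_congr e.toEquiv]
    exact psp_eq hn
  · obtain ⟨F, _, _, _, n, q, hF, hn, hn2, ⟨e⟩⟩ := h
    have hq2 : IsPrimePow (q ^ 2) := hF ▸ Fintype.isPrimePow_card_of_field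
    have hqp : IsPrimePow q := (isPrimePow_pow_iff (by norm_num)).1 hq2
    obtain ⟨k, hk⟩ := exists_pow_card (p := p) F
    refine ⟨.psu n q, .mk' ⟨F, inferInstance, inferInstance, hF, ⟨e⟩⟩ ⟨hn, hn2, hqp⟩ ?_,
      exists_pow hp two_ne_zero (hF.symm.trans hk)⟩
    rw [Nat.card_congr e.toEquiv]
    exact psu_eq hF hn
  · obtain ⟨F, _, _, _, n, hn, ho, ⟨e⟩⟩ := h
    refine ⟨.oodd n (Fintype.card F), .mk' ⟨F, inferInstance, inferInstance, rfl, ⟨e⟩⟩
      ⟨hn, ho, Fintype.isPrimePow_card_of_field⟩ ?_, exists_pow_card F⟩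
    rw [Nat.card_congr e.toEquiv]
    exact oodd_eq hn ho
  · obtain ⟨F, _, _, _, n, hn, ⟨e⟩⟩ := h
    refine ⟨.oplus n (Fintype.card F), .mk' ⟨F, inferInstance, inferInstance, rfl, ⟨e⟩⟩
      ⟨hn, Fintype.isPrimePow_card_of_field⟩ ?_, exists_pow_card F⟩
    rw [Nat.card_congr e.toEquiv]
    exact oplus_eq hn
  · obtain ⟨F, _, _, _, n, a, b, hn, hab, ⟨e⟩⟩ := h
    refine ⟨.ominus n (Fintype.card F), .mk' ⟨F, inferInstance, inferInstance, a, b, rfl, hab, ⟨e⟩⟩
      ⟨hn, Fintype.isPrimePow_card_of_field⟩ ?_, exists_pow_card F⟩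
    rw [Nat.card_congr e.toEquiv]
    exact ominus_eq hn hab
  · obtain ⟨F, _, _, _, h⟩ := h
    rcases h with h | h | h | h | h
    · obtain ⟨hq, ⟨e⟩⟩ := h
      refine ⟨.g2 (Fintype.card F), .mk' ⟨F, inferInstance, inferInstance, rfl, ⟨e⟩⟩
        ⟨hq, Fintype.isPrimePow_card_of_field⟩ ?_, exists_pow_card F⟩
      rw [Nat.card_congr e.toEquiv]
      change 1 * _ = _ ^ 6 * _
      rw [T.g2 F]; ring
    · obtain ⟨e⟩ := h
      refine ⟨.f4 (Fintype.card F), .mk' ⟨F, inferInstance, inferInstance, rfl, ⟨e⟩⟩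
        Fintype.isPrimePow_card_of_field ?_, exists_pow_card F⟩
      rw [Nat.card_congr e.toEquiv]
      change 1 * _ = _ ^ 24 * _
      rw [T.f4 F _ rfl]; ring
    · obtain ⟨e⟩ := h
      refine ⟨.e6 (Fintype.card F), .mk' ⟨F, inferInstance, inferInstance, rfl, ⟨e⟩⟩
        Fintype.isPrimePow_card_of_field ?_, exists_pow_card F⟩
      rw [Nat.card_congr e.toEquiv]
      change Nat.gcd 3 (Fintype.card F - 1) * _ = _ ^ 36 * _
      rw [T.e6 F _ rfl]; ring
    · obtain ⟨e⟩ := h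
      refine ⟨.e7 (Fintype.card F), .mk' ⟨F, inferInstance, inferInstance, rfl, ⟨e⟩⟩
        Fintype.isPrimePow_card_of_field ?_, exists_pow_card F⟩
      rw [Nat.card_congr e.toEquiv]
      change Nat.gcd 2 (Fintype.card F - 1) * _ = _ ^ 63 * _
      rw [T.e7 F _ rfl]; ring
    · obtain ⟨e⟩ := h
      refine ⟨.e8 (Fintype.card F), .mk' ⟨F, inferInstance, inferInstance, rfl, ⟨e⟩⟩
        Fintype.isPrimePow_card_of_field ?_, exists_pow_card F⟩
      rw [Nat.card_congr e.toEquiv]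
      change 1 * _ = _ ^ 120 * _
      rw [T.e8 F _ rfl]; ring
  · obtain ⟨F, _, _, _, q, hq, h⟩ := h
    obtain ⟨k, hk⟩ := exists_pow_card (p := p) F
    rcases h with ⟨hF, ⟨e⟩⟩ | ⟨hF, ⟨e⟩⟩
    · refine ⟨.te6 q, .mk' ⟨F, inferInstance, inferInstance, hF, ⟨e⟩⟩ hq ?_,
        exists_pow hp two_ne_zero (hF.symm.trans hk)⟩
      rw [Nat.card_congr e.toEquiv]
      change Nat.gcd 3 (q + 1) * _ = _ ^ 36 * _
      rw [T.te6 F q hq hF]; ring
    · refine ⟨.td4 q, .mk' ⟨F, inferInstance, inferInstance, hF, ⟨e⟩⟩ hq ?_,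
        exists_pow hp three_ne_zero (hF.symm.trans hk)⟩
      rw [Nat.card_congr e.toEquiv]
      change 1 * _ = _ ^ 12 * _
      rw [T.td4 F q hq hF]; ring
  · obtain ⟨rfl, F, _, _, m, hm, hF, ⟨e⟩⟩ := h
    refine ⟨.sz (2 ^ (2 * m + 1)), .mk' ⟨F, inferInstance, inferInstance, m, hm, hF, rfl, ⟨e⟩⟩
      ⟨m, hm, rfl⟩ ?_, ⟨_, rfl⟩⟩
    rw [Nat.card_congr e.toEquiv]
    change 1 * _ = _ ^ 2 * _
    rw [T.sz F m hm hF]; ring
  · obtain ⟨rfl, F, _, _, m, hm, hF, ⟨e⟩⟩ := h
    refine ⟨.tf4 (2 ^ (2 * m + 1)), .mk' ⟨F, inferInstance, inferInstance, m, hm, hF, rfl, ⟨e⟩⟩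
      ⟨m, hm, rfl⟩ ?_, ⟨_, rfl⟩⟩
    rw [Nat.card_congr e.toEquiv]
    change 1 * _ = _ ^ 12 * _
    rw [T.tf4 F m hm hF]; ring
  · obtain ⟨rfl, F, _, _, m, hm, hF, ⟨e⟩⟩ := h
    refine ⟨.ree (3 ^ (2 * m + 1)), .mk' ⟨F, inferInstance, inferInstance, m, hm, hF, rfl, ⟨e⟩⟩
      ⟨m, hm, rfl⟩ ?_, ⟨_, rfl⟩⟩
    rw [Nat.card_congr e.toEquiv]
    change 1 * _ = _ ^ 3 * _
    rw [T.ree F m hm hF]; ring

end Cfsg.Agent.H659.O8
end

-- part: H304/OutCop_mg
section
set_option linter.all false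
open scoped Cfsg.Agent.FastGrp

-- part: H304/OutCop
section
/-!
# Large primes of `|Aut S|` divide `|S|` (helper304, TEAM ELUSIVE)

`dvd_of_dvd_aut`: `S` a known nonabelian simple group, `r ≥ 5` prime, no `r`-th power of a prime divides `|S|`;
then `r ∣ |Aut S|` implies `r ∣ |S|`.
-/

set_option autoImplicit false

namespace Cfsg.Agent.H304.OutCop

open Cfsg Cfsg.Agent.OrdDiv Cfsg.Agent.H436 Cfsg.Agent.H915.GN Cfsg.Agent.H264.FKS Cfsg.Agent.H902
  Cfsg.Agent.H902.Names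

universe u

end Cfsg.Agent.H304.OutCop
end

-- part: H109/O8/Named
section
/-!
# The name of a simple group of Lie type in characteristic `p` (helper109)

`exists_named` : `IsLieTypeChar p S` gives a name `g` with `IsNamed g S` and `HasChar p g`.
-/

set_option autoImplicit false

namespace Cfsg.Agent.H109.O8

open Cfsg Cfsg.Agent.OrdDiv Cfsg.Agent.H436 Cfsg.Agent.H915.GN

universe u

theorem card_pow {F : Type} [Field F] [Fintype F] {p : ℕ} [CharP F p] : ∃ f, Fintype.card F = p ^ f := by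
  obtain ⟨n, -, hn⟩ := FiniteField.card F p
  exact ⟨_, hn⟩

theorem root_pow {p q k f : ℕ} (hp : p.Prime) (hk : k ≠ 0) (h : q ^ k = p ^ f) : ∃ f, q = p ^ f := by
  have h1 : q ∣ p ^ f := by rw [← h]; exact dvd_pow_self q hk
  obtain ⟨i, -, hi⟩ := (Nat.dvd_prime_pow hp).1 h1
  exact ⟨i, hi⟩

/-- **The name of a group of Lie type in characteristic `p`.** -/
theorem exists_named {p : ℕ} (hp : p.Prime) {S : Type u} [Group S] (h : IsLieTypeChar p S) :
    ∃ g, IsNamed g S ∧ HasChar p g := by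
  have T := OrdDiv.table.{u}
  rcases h with h | h | h | h | h | h | h | h | h | h | h
  · obtain ⟨F, _, _, _, n, hn, hn2, ⟨e⟩⟩ := h
    refine ⟨.psl n (Fintype.card F), .mk' ⟨F, inferInstance, inferInstance, rfl, ⟨e⟩⟩
      ⟨hn, hn2, Fintype.isPrimePow_card_of_field⟩ ?_, card_pow⟩
    rw [Nat.card_congr e.toEquiv]
    exact psl_eq hn
  · obtain ⟨F, _, _, _, n, hn, hn2, ⟨e⟩⟩ := h
    refine ⟨.psp n (Fintype.card F), .mk' ⟨F, inferInstance, inferInstance, rfl, ⟨e⟩⟩
      ⟨hn, hn2, Fintype.isPrimePow_card_of_field⟩ ?_, card_pow⟩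
    rw [Nat.card_congr e.toEquiv]
    exact psp_eq hn
  · obtain ⟨F, _, _, _, n, q, hF, hn, hn2, ⟨e⟩⟩ := h
    have hq2 : IsPrimePow (q ^ 2) := hF ▸ Fintype.isPrimePow_card_of_field
    have hqp : IsPrimePow q := (isPrimePow_pow_iff (by norm_num)).1 hq2
    obtain ⟨f, hf⟩ := card_pow (F := F) (p := p)
    refine ⟨.psu n q, .mk' ⟨F, inferInstance, inferInstance, hF, ⟨e⟩⟩ ⟨hn, hn2, hqp⟩ ?_,
      root_pow hp two_ne_zero (hF.symm.trans hf)⟩
    rw [Nat.card_congr e.toEquiv]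
    exact psu_eq hF hn
  · obtain ⟨F, _, _, _, n, hn, ho, ⟨e⟩⟩ := h
    refine ⟨.oodd n (Fintype.card F), .mk' ⟨F, inferInstance, inferInstance, rfl, ⟨e⟩⟩
      ⟨hn, ho, Fintype.isPrimePow_card_of_field⟩ ?_, card_pow⟩
    rw [Nat.card_congr e.toEquiv]
    exact oodd_eq hn ho
  · obtain ⟨F, _, _, _, n, hn, ⟨e⟩⟩ := h
    refine ⟨.oplus n (Fintype.card F), .mk' ⟨F, inferInstance, inferInstance, rfl, ⟨e⟩⟩
      ⟨hn, Fintype.isPrimePow_card_of_field⟩ ?_, card_pow⟩
    rw [Nat.card_congr e.toEquiv]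
    exact oplus_eq hn
  · obtain ⟨F, _, _, _, n, a, b, hn, hab, ⟨e⟩⟩ := h
    refine ⟨.ominus n (Fintype.card F), .mk' ⟨F, inferInstance, inferInstance, a, b, rfl, hab, ⟨e⟩⟩
      ⟨hn, Fintype.isPrimePow_card_of_field⟩ ?_, card_pow⟩
    rw [Nat.card_congr e.toEquiv]
    exact ominus_eq hn hab
  · obtain ⟨F, _, _, _, ⟨hq, ⟨e⟩⟩ | ⟨⟨e⟩⟩ | ⟨⟨e⟩⟩ | ⟨⟨e⟩⟩ | ⟨⟨e⟩⟩⟩ := h
    · refine ⟨.g2 (Fintype.card F), .mk' ⟨F, inferInstance, inferInstance, rfl, ⟨e⟩⟩
        ⟨hq, Fintype.isPrimePow_card_of_field⟩ ?_, card_pow⟩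
      rw [Nat.card_congr e.toEquiv]
      change 1 * _ = _ ^ 6 * _
      rw [T.g2 F]; ring
    · refine ⟨.f4 (Fintype.card F), .mk' ⟨F, inferInstance, inferInstance, rfl, ⟨e⟩⟩
        Fintype.isPrimePow_card_of_field ?_, card_pow⟩
      rw [Nat.card_congr e.toEquiv]
      change 1 * _ = _ ^ 24 * _
      rw [T.f4 F _ rfl]; ring
    · refine ⟨.e6 (Fintype.card F), .mk' ⟨F, inferInstance, inferInstance, rfl, ⟨e⟩⟩
        Fintype.isPrimePow_card_of_field ?_, card_pow⟩
      rw [Nat.card_congr e.toEquiv]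
      change Nat.gcd 3 (Fintype.card F - 1) * _ = _ ^ 36 * _
      rw [T.e6 F _ rfl]; ring
    · refine ⟨.e7 (Fintype.card F), .mk' ⟨F, inferInstance, inferInstance, rfl, ⟨e⟩⟩
        Fintype.isPrimePow_card_of_field ?_, card_pow⟩
      rw [Nat.card_congr e.toEquiv]
      change Nat.gcd 2 (Fintype.card F - 1) * _ = _ ^ 63 * _
      rw [T.e7 F _ rfl]; ring
    · refine ⟨.e8 (Fintype.card F), .mk' ⟨F, inferInstance, inferInstance, rfl, ⟨e⟩⟩
        Fintype.isPrimePow_card_of_field ?_, card_pow⟩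
      rw [Nat.card_congr e.toEquiv]
      change 1 * _ = _ ^ 120 * _
      rw [T.e8 F _ rfl]; ring
  · obtain ⟨F, _, _, _, q, hq, ⟨hF, ⟨e⟩⟩ | ⟨hF, ⟨e⟩⟩⟩ := h
    · obtain ⟨f, hf⟩ := card_pow (F := F) (p := p)
      refine ⟨.te6 q, .mk' ⟨F, inferInstance, inferInstance, hF, ⟨e⟩⟩ hq ?_,
        root_pow hp two_ne_zero (hF.symm.trans hf)⟩
      rw [Nat.card_congr e.toEquiv]
      change Nat.gcd 3 (q + 1) * _ = _ ^ 36 * _
      rw [T.te6 F q hq hF]; ring
    · obtain ⟨f, hf⟩ := card_pow (F := F) (p := p)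
      refine ⟨.td4 q, .mk' ⟨F, inferInstance, inferInstance, hF, ⟨e⟩⟩ hq ?_,
        root_pow hp three_ne_zero (hF.symm.trans hf)⟩
      rw [Nat.card_congr e.toEquiv]
      change 1 * _ = _ ^ 12 * _
      rw [T.td4 F q hq hF]; ring
  · obtain ⟨rfl, F, _, _, m, hm, hF, ⟨e⟩⟩ := h
    refine ⟨.sz (2 ^ (2 * m + 1)), .mk' ⟨F, inferInstance, inferInstance, m, hm, hF, rfl, ⟨e⟩⟩
      ⟨m, hm, rfl⟩ ?_, ⟨_, rfl⟩⟩
    rw [Nat.card_congr e.toEquiv]
    change 1 * _ = _ ^ 2 * _
    rw [T.sz F m hm hF]; ring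
  · obtain ⟨rfl, F, _, _, m, hm, hF, ⟨e⟩⟩ := h
    refine ⟨.tf4 (2 ^ (2 * m + 1)), .mk' ⟨F, inferInstance, inferInstance, m, hm, hF, rfl, ⟨e⟩⟩
      ⟨m, hm, rfl⟩ ?_, ⟨_, rfl⟩⟩
    rw [Nat.card_congr e.toEquiv]
    change 1 * _ = _ ^ 12 * _
    rw [T.tf4 F m hm hF]; ring
  · obtain ⟨rfl, F, _, _, m, hm, hF, ⟨e⟩⟩ := h
    refine ⟨.ree (3 ^ (2 * m + 1)), .mk' ⟨F, inferInstance, inferInstance, m, hm, hF, rfl, ⟨e⟩⟩
      ⟨m, hm, rfl⟩ ?_, ⟨_, rfl⟩⟩
    rw [Nat.card_congr e.toEquiv]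
    change 1 * _ = _ ^ 3 * _
    rw [T.ree F m hm hF]; ring

end Cfsg.Agent.H109.O8
end
end

-- part: H708/O8/Defs
section
set_option linter.all false

/-!
# COV-O8+: the group `PΩ⁺₈(q)` is not the union of the conjugates of two proper subgroups: definitions (helper708)

`V = F ^ (Fin 4 ⊕ Fin 4)` with the form `quadPlus 4 F`; `r` a primitive prime divisor of `p ^ (4 a) - 1`, `q = p ^ a`.
-/

set_option autoImplicit false

namespace Cfsg.Agent.H708.O8

open Module QuadraticMap Cfsg Cfsg.Geo Cfsg.Agent.LieClassical.OrthCore Cfsg.Agent.H955 Cfsg.Agent.H954.TSing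
open Cfsg.Agent.LieClassical.OmegaReindex
open Cfsg.Agent.H951 (fx cm Inv)
open Cfsg.Agent.H884.El
open Cfsg.Agent.H436 (Prim)
open scoped MatrixGroups Matrix

/-- the index type -/
abbrev I8 : Type := Fin 4 ⊕ Fin 4

/-- the group -/
abbrev T8 (F : Type) [Field F] [Fintype F] : Type := POmega F (quadFormPlus 4 F)

/-- the numbers: `q = p ^ a`, `r` is a primitive prime divisor of `p ^ (4 a) - 1`, `r ^ b` the exact power dividing
`q² + 1` -/
structure RB (p a r b : ℕ) : Prop where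
  hp : p.Prime
  ha : 1 ≤ a
  prim : Prim p (4 * a) r
  dvd : r ^ b ∣ p ^ (2 * a) + 1
  not_dvd : ¬ r ^ (b + 1) ∣ p ^ (2 * a) + 1
  cases : (13 ≤ r ∧ 1 ≤ b) ∨ (r = 5 ∧ 2 ≤ b ∧ 7 ≤ p ∧ a = 1) ∨ (r = 5 ∧ b = 1 ∧ (p = 2 ∨ p = 3) ∧ a = 1)

/-- type `A`: `u` of prime order `r`, `dim [V, u] = 4`; `w` an isometry of odd order `s` prime to `r`, trivial on
`[V, u]` (hence `u w = w u`); either `(w - 1)²` has rank one or `w` has prime order `l`, `l ∣ q + 1`, and
`dim [V, w] = 2`. -/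
structure TypeA {F : Type} [Field F] [Fintype F] (u w : GL I8 F) (r s : ℕ) : Prop where
  u_mem : u ∈ isometryGroup F (quadFormPlus 4 F)
  w_mem : w ∈ isometryGroup F (quadFormPlus 4 F)
  u_pow : u ^ r = 1
  u_ne : u ≠ 1
  u_dim : finrank F (cm (lin u)) = 4
  comm : u * w = w * u
  triv : ∀ v ∈ cm (lin u), lin w v = v
  w_pow : w ^ s = 1
  odd : Odd s
  cop : Nat.Coprime r s
  ord : (Nat.card F = 2 ∨ Nat.card F = 3) → s = 3 ∧ w ≠ 1
  sharp : finrank F (LinearMap.range ((lin w - 1) ^ 2)) = 1 ∨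
    (PP (Nat.card F) 2 s ∧ finrank F (cm (lin w)) = 2)

/-- type `B`: `y = x²` leaves only `⊥, X, Y, ⊤` invariant, `X`, `Y` totally singular of dimension four -/
structure TypeB {F : Type} [Field F] [Fintype F] (x : GL I8 F) (X Y : Submodule F (I8 → F)) (r b : ℕ) : Prop where
  mem : x ∈ omegaGL (quadFormPlus 4 F)
  tsX : ∀ v ∈ X, quadFormPlus 4 F v = 0
  tsY : ∀ v ∈ Y, quadFormPlus 4 F v = 0
  dimX : finrank F X = 4
  dimY : finrank F Y = 4
  compl : IsCompl X Y
  invX : Inv (lin x) X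
  invY : Inv (lin x) Y
  only : ∀ W : Submodule F (I8 → F), Inv (lin (x ^ 2)) W → W = ⊥ ∨ W = X ∨ W = Y ∨ W = ⊤
  /-- the `r`-part -/
  m : ∃ m : ℕ, Nat.Coprime r m ∧ x ^ (r ^ b * m) = 1 ∧ cm (lin (x ^ (r ^ (b - 1) * m))) = ⊤
  ord : (Nat.card F = 2 → orderOf x = 15) ∧ (Nat.card F = 3 → orderOf x = 40 ∧ ((x ^ 20 : GL I8 F) : Matrix I8 I8 F) = -1)

end Cfsg.Agent.H708.O8
end
end

-- part: H708/O8/Par
section
set_option linter.all false
open scoped Cfsg.Agent.FastGrp

/-!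
# COV-O8+: the two families of maximal totally singular subspaces (helper708)
-/

set_option autoImplicit false

namespace Cfsg.Agent.H708.O8

open Module QuadraticMap Cfsg Cfsg.Geo Cfsg.Agent.LieClassical.OrthCore Cfsg.Agent.H955 Cfsg.Agent.H954.TSing
open Cfsg.Agent.LieClassical.OmegaReindex
open Cfsg.Agent.H951 (fx cm Inv)
open Cfsg.Agent.H884.El
open Cfsg.Agent.H436 (Prim)
open scoped MatrixGroups Matrix

/-- the standard totally singular subspaces -/
def XX (F : Type) [Field F] : Submodule F (I8 → F) where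
  carrier := {v | ∀ i, v (.inr i) = 0}
  add_mem' := fun {x y} hx hy i => by rw [Pi.add_apply, hx, hy, add_zero]
  zero_mem' := fun _ => rfl
  smul_mem' := fun c x hx i => by rw [Pi.smul_apply, hx, smul_zero]

def YY (F : Type) [Field F] : Submodule F (I8 → F) where
  carrier := {v | ∀ i, v (.inl i) = 0}
  add_mem' := fun {x y} hx hy i => by rw [Pi.add_apply, hx, hy, add_zero]
  zero_mem' := fun _ => rfl
  smul_mem' := fun c x hx i => by rw [Pi.smul_apply, hx, smul_zero]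

section

variable {F : Type} [Field F]

theorem ts_XX : ∀ v ∈ XX F, quadFormPlus 4 F v = 0 := fun v hv => by
  unfold quadFormPlus
  exact Finset.sum_eq_zero fun i _ => by rw [hv i, mul_zero]

/-- `XX` is `F⁴` -/
noncomputable def eX (F : Type) [Field F] : XX F ≃ₗ[F] (Fin 4 → F) where
  toFun v i := (v : I8 → F) (.inl i)
  map_add' _ _ := rfl
  map_smul' _ _ := rfl
  invFun w := ⟨Sum.elim w 0, fun _ => rfl⟩
  left_inv v := Subtype.ext (funext fun j => by
    rcases j with j | j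
    · rfl
    · exact (v.2 j).symm)
  right_inv _ := rfl

noncomputable def eY (F : Type) [Field F] : YY F ≃ₗ[F] (Fin 4 → F) where
  toFun v i := (v : I8 → F) (.inr i)
  map_add' _ _ := rfl
  map_smul' _ _ := rfl
  invFun w := ⟨Sum.elim 0 w, fun _ => rfl⟩
  left_inv v := Subtype.ext (funext fun j => by
    rcases j with j | j
    · exact (v.2 j).symm
    · rfl)
  right_inv _ := rfl

theorem finrank_XX : finrank F (XX F) = 4 := by
  rw [(eX F).finrank_eq, Module.finrank_fin_fun]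

/-- parity of three intersections -/
theorem even_three {U W X : Submodule F (I8 → F)} (hU : finrank F U = 4) (hW : finrank F W = 4)
    (hX : finrank F X = 4) (hU0 : ∀ v ∈ U, quadFormPlus 4 F v = 0) (hW0 : ∀ v ∈ W, quadFormPlus 4 F v = 0)
    (hX0 : ∀ v ∈ X, quadFormPlus 4 F v = 0) :
    Even (finrank F ↥(U ⊓ W) + finrank F ↥(W ⊓ X) + finrank F ↥(U ⊓ X)) := by
  have h := Cfsg.Agent.ClassicalGeometry.TwoFamilies.even_intersections (B := polarBilin (quadPlus 4 F))
    (quadFormPlus 4 F) (fun u w => by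
      rw [← coe_quadPlus, polarBilin_apply_apply]
      exact QuadraticMap.map_add (quadPlus 4 F) u w) quadPlus_nondegenerate
    (fun x y hxy => by
      rw [polarBilin_apply_apply] at hxy ⊢
      rw [polar_comm]
      exact hxy) 4 (by simp) U W X hU hW hX hU0 hW0 hX0
  have h4 : Even 4 := by decide
  exact (Nat.even_add.1 h).2 h4

variable (F)

theorem mem_iso {g : GL I8 F} : g ∈ isometryGroup F (quadFormPlus 4 F) ↔
    ∀ v, quadFormPlus 4 F (Matrix.toLin' (g : Matrix I8 I8 F) v) = quadFormPlus 4 F v := by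
  rw [H925.mem_iso_iff]
  rfl

variable {F}

theorem lin_mul (g h : GL I8 F) : lin (g * h) = lin g * lin h := by
  rw [lin, lin, lin, Units.val_mul, Matrix.toLin'_mul]
  rfl

theorem lin_one' : lin (1 : GL I8 F) = 1 := by
  rw [lin, Units.val_one, Matrix.toLin'_one]
  rfl

theorem lin_inv_lin (g : GL I8 F) (v : I8 → F) : lin g⁻¹ (lin g v) = v := by
  rw [← Module.End.mul_apply, ← lin_mul, inv_mul_cancel, lin_one']
  rfl

theorem lin_lin_inv (g : GL I8 F) (v : I8 → F) : lin g (lin g⁻¹ v) = v := by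
  rw [← Module.End.mul_apply, ← lin_mul, mul_inv_cancel, lin_one']
  rfl

theorem lin_inj (g : GL I8 F) : Function.Injective (lin g) := fun v w h => by
  rw [← lin_inv_lin g v, h, lin_inv_lin]

/-- the translate of a subspace -/
def tr (g : GL I8 F) (X : Submodule F (I8 → F)) : Submodule F (I8 → F) := X.map (lin g)

theorem tr_mul (g h : GL I8 F) (X : Submodule F (I8 → F)) : tr (g * h) X = tr g (tr h X) := by
  unfold tr
  rw [lin_mul, ← Submodule.map_comp]
  rfl

theorem tr_one (X : Submodule F (I8 → F)) : tr 1 X = X := by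
  unfold tr
  rw [lin_one']
  exact Submodule.map_id X

theorem mem_tr {g : GL I8 F} {X : Submodule F (I8 → F)} {v : I8 → F} : v ∈ tr g X ↔ lin g⁻¹ v ∈ X := by
  constructor
  · rintro ⟨w, hw, rfl⟩
    rw [lin_inv_lin]
    exact hw
  · intro h
    exact ⟨_, h, lin_lin_inv g v⟩

theorem tr_inf (g : GL I8 F) (X Y : Submodule F (I8 → F)) : tr g (X ⊓ Y) = tr g X ⊓ tr g Y := by
  ext v
  rw [Submodule.mem_inf, mem_tr, mem_tr, mem_tr, Submodule.mem_inf]

theorem finrank_tr (g : GL I8 F) (X : Submodule F (I8 → F)) : finrank F (tr g X) = finrank F X :=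
  (Submodule.equivMapOfInjective (lin g) (lin_inj g) X).finrank_eq.symm

theorem ts_tr {g : GL I8 F} (hg : g ∈ isometryGroup F (quadFormPlus 4 F)) {X : Submodule F (I8 → F)}
    (hX : ∀ v ∈ X, quadFormPlus 4 F v = 0) : ∀ v ∈ tr g X, quadFormPlus 4 F v = 0 := by
  rintro _ ⟨w, hw, rfl⟩
  rw [(mem_iso F).1 hg]
  exact hX w hw

/-- the parity of `dim (X ∩ g X)` as a homomorphism -/
noncomputable def par (F : Type) [Field F] : isometryGroup F (quadFormPlus 4 F) →* Multiplicative (ZMod 2) where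
  toFun g := Multiplicative.ofAdd ((finrank F ↥(XX F ⊓ tr (g : GL I8 F) (XX F)) : ℕ) : ZMod 2)
  map_one' := by
    rw [OneMemClass.coe_one, tr_one, inf_idem, finrank_XX]
    rfl
  map_mul' g h := by
    rw [← ofAdd_add]
    congr 1
    have h1 := even_three (F := F) finrank_XX ((finrank_tr (g : GL I8 F) _).trans finrank_XX)
      ((finrank_tr ((g : GL I8 F) * (h : GL I8 F)) _).trans finrank_XX) ts_XX (ts_tr g.2 ts_XX)
      (ts_tr (mul_mem g.2 h.2) ts_XX)
    rw [tr_mul, ← tr_inf, finrank_tr, ← tr_mul, ← ZMod.natCast_eq_zero_iff_even, Nat.cast_add, Nat.cast_add] at h1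
    have h2 : ∀ x y z : ZMod 2, x + y + z = 0 → z = x + y := by decide
    exact h2 _ _ _ h1

theorem par_omega {g : isometryGroup F (quadFormPlus 4 F)} (hg : g ∈ Omega F (quadFormPlus 4 F)) :
    par F g = 1 := by
  have h : Omega F (quadFormPlus 4 F) ≤ (par F).ker := Abelianization.commutator_subset_ker _
  exact h hg

theorem even_of_omega {g : GL I8 F} (hg : g ∈ omegaGL (quadFormPlus 4 F)) :
    Even (finrank F ↥(XX F ⊓ tr g (XX F))) := by
  obtain ⟨x, hx, rfl⟩ := hg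
  have h := par_omega hx
  rw [← ZMod.natCast_eq_zero_iff_even]
  exact h

/-- the swap of two coordinates -/
noncomputable def rho (F : Type) [Field F] : GL I8 F :=
  (Matrix.GeneralLinearGroup.mk'' (Equiv.Perm.permMatrix F (Equiv.swap (Sum.inl 0 : I8) (Sum.inr 0)))
    (by
      rw [Matrix.det_permutation]
      rcases Int.units_eq_one_or (Equiv.Perm.sign (Equiv.swap (Sum.inl 0 : I8) (Sum.inr 0))) with h | h <;> rw [h] <;> simp))

theorem lin_rho (v : I8 → F) : lin (rho F) v = v ∘ Equiv.swap (Sum.inl 0 : I8) (Sum.inr 0) := by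
  funext j
  rw [lin, Matrix.toLin'_apply]
  change (Equiv.Perm.permMatrix F (Equiv.swap (Sum.inl 0 : I8) (Sum.inr 0))).mulVec v j = _
  rw [Matrix.permMatrix_mulVec]

theorem rho_mem : rho F ∈ isometryGroup F (quadFormPlus 4 F) := by
  rw [mem_iso]
  intro v
  have h : Matrix.toLin' ((rho F : GL I8 F) : Matrix I8 I8 F) v = v ∘ Equiv.swap (Sum.inl 0 : I8) (Sum.inr 0) :=
    lin_rho v
  rw [h]
  unfold quadFormPlus
  refine Finset.sum_congr rfl fun i _ => ?_
  simp only [Function.comp_apply]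
  by_cases hi : i = 0
  · subst hi
    rw [Equiv.swap_apply_left, Equiv.swap_apply_right, mul_comm]
  · rw [Equiv.swap_apply_of_ne_of_ne, Equiv.swap_apply_of_ne_of_ne] <;> simp [hi]

theorem finrank_XX_rho : finrank F ↥(XX F ⊓ tr (rho F) (XX F)) = 3 := by
  have hinv : ∀ v : I8 → F, lin (rho F)⁻¹ v = v ∘ Equiv.swap (Sum.inl 0 : I8) (Sum.inr 0) := by
    intro v
    apply lin_inj (rho F)
    rw [lin_lin_inv, lin_rho]
    funext j
    simp
  let e : ↥(XX F ⊓ tr (rho F) (XX F)) ≃ₗ[F] (Fin 3 → F) :=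
    { toFun := fun v i => (v : I8 → F) (.inl i.succ)
      map_add' := fun _ _ => rfl
      map_smul' := fun _ _ => rfl
      invFun := fun w => ⟨Sum.elim (Fin.cons 0 w) 0, by
        refine ⟨fun _ => rfl, mem_tr.2 ?_⟩
        rw [hinv]
        intro i
        simp only [Function.comp_apply]
        by_cases hi : i = 0
        · subst hi
          rw [Equiv.swap_apply_right]
          rfl
        · rw [Equiv.swap_apply_of_ne_of_ne (by simp) (by simp [hi])]
          rfl⟩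
      left_inv := fun v => Subtype.ext (funext fun j => by
        rcases j with j | j
        · refine Fin.cases ?_ (fun i => ?_) j
          · have h1 := mem_tr.1 v.2.2
            rw [hinv] at h1
            have h2 := h1 0
            simp only [Function.comp_apply, Equiv.swap_apply_right] at h2
            exact h2.symm
          · rfl
        · exact (v.2.1 j).symm)
      right_inv := fun _ => rfl }
  rw [e.finrank_eq, Module.finrank_fin_fun]

/-- **T1**: `dim (X ∩ h ρ X)` is odd for `h ∈ Ω`. -/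
theorem odd_inter {h : GL I8 F} (hh : h ∈ omegaGL (quadFormPlus 4 F)) :
    Odd (finrank F ↥(XX F ⊓ tr (h * rho F) (XX F))) := by
  obtain ⟨x, hx, rfl⟩ := hh
  have h1 := par_omega hx
  have h2 : par F (x * ⟨rho F, rho_mem⟩) = par F ⟨rho F, rho_mem⟩ := by rw [map_mul, h1, one_mul]
  rw [← Nat.not_even_iff_odd, ← ZMod.natCast_eq_zero_iff_even]
  have h3 : ((finrank F ↥(XX F ⊓ tr ((x : GL I8 F) * rho F) (XX F)) : ℕ) : ZMod 2) =
      ((finrank F ↥(XX F ⊓ tr (rho F) (XX F)) : ℕ) : ZMod 2) := h2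
  have h4 : ((isometryGroup F (quadFormPlus 4 F)).subtype x : GL I8 F) = (x : GL I8 F) := rfl
  rw [h4, h3, finrank_XX_rho]
  decide

end

end Cfsg.Agent.H708.O8
end

section
prune_inst 0x10000000000000

-- part: H659/O8/Own
section
set_option linter.all false
open scoped Cfsg.Agent.FastGrp

-- part: H659/O8/Exact
section
/-!
# COV-O8+ (S2499): the exact power of a primitive prime divisor of `p ^ (4 a) - 1` in the orders of the simple groups of Lie
type in characteristic `p` (helper659)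

`nd_name` : if `f · M ≤ 6 a` (`M` the largest exponent of the order of the group `g` over `p ^ f`) and `g ≠ PΩ₈⁺(p ^ a)`, then
`r ^ (b + 1) ∤ |g|`, where `r ^ (b + 1) ∤ p ^ (4 a) - 1`.
-/

set_option autoImplicit false

namespace Cfsg.Agent.H659.O8

open Cfsg.Agent.OrdDiv Cfsg.Agent.H436 Cfsg.Agent.H915.GN Cfsg.Agent.H264.GN Cfsg.Agent.H264.FKS Finset

variable {p a r b f c : ℕ}

/-- `p` has order `4 a` modulo `r`, and `r ^ (b + 1) ∤ p ^ (4 a) - 1` -/
structure EX (p a r b : ℕ) : Prop where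
  ha : 1 ≤ a
  prim : Prim p (4 * a) r
  nd : ¬ r ^ (b + 1) ∣ p ^ (4 * a) - 1

theorem cop_pow {r n N : ℕ} (hr : r.Prime) (h : ¬ r ∣ N) : Nat.Coprime (r ^ n) N :=
  Nat.Coprime.pow_left n ((Nat.Prime.coprime_iff_not_dvd hr).2 h)

theorem nd_prod {ι : Type*} [DecidableEq ι] (s : Finset ι) (F : ι → ℕ) (hr : r.Prime)
    (hu : ∀ i ∈ s, ∀ j ∈ s, r ∣ F i → r ∣ F j → i = j) (hb : ∀ i ∈ s, ¬ r ^ (b + 1) ∣ F i) :
    ¬ r ^ (b + 1) ∣ ∏ i ∈ s, F i := by
  intro h
  have hrp : r ∣ ∏ i ∈ s, F i := (dvd_pow_self r (by omega)).trans h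
  rw [Prime.dvd_finsetProd_iff hr.prime] at hrp
  obtain ⟨i, hi, hd⟩ := hrp
  rw [← Finset.mul_prod_erase s F hi] at h
  refine hb i hi ((cop_pow hr fun h1 => ?_).dvd_of_dvd_mul_right h)
  rw [Prime.dvd_finsetProd_iff hr.prime] at h1
  obtain ⟨j, hj, hd'⟩ := h1
  have h2 := hu i hi j (Finset.mem_of_mem_erase hj) hd hd'
  exact (Finset.ne_of_mem_erase hj) h2.symm

namespace EX

variable (E : EX p a r b)
include E

theorem eqf {x N : ℕ} (h1 : 1 ≤ f * x) (hle : f * x ≤ 6 * a) (hN : N ∣ (p ^ f) ^ x - 1) (hr : r ∣ N) : f * x = 4 * a := by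
  have h2 := hr.trans hN
  rw [← pow_mul, E.prim.dvd_iff] at h2
  obtain ⟨k, hk⟩ := h2
  have ha := E.ha
  have h3 : k ≠ 0 := by
    rintro rfl
    omega
  rcases Nat.lt_or_ge k 2 with h4 | h4
  · obtain rfl : k = 1 := by omega
    omega
  · have := Nat.mul_le_mul_left (4 * a) h4
    omega

theorem ndf {x N : ℕ} (h1 : 1 ≤ f * x) (hle : f * x ≤ 6 * a) (hN : N ∣ (p ^ f) ^ x - 1) : ¬ r ^ (b + 1) ∣ N := by
  intro h
  have h2 := E.eqf h1 hle hN ((dvd_pow_self r (by omega)).trans h)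
  have h3 := h.trans hN
  rw [← pow_mul, h2] at h3
  exact E.nd h3

/-- the general criterion -/
theorem nd_fam {ι : Type*} [DecidableEq ι] (hf : 1 ≤ f) {A D N : ℕ} (s : Finset ι) (F x : ι → ℕ)
    (hF : ∀ i ∈ s, F i ∣ (p ^ f) ^ (x i) - 1) (hx : ∀ i ∈ s, 1 ≤ x i ∧ f * x i ≤ 6 * a)
    (hu : ∀ i ∈ s, ∀ j ∈ s, f * x i = 4 * a → f * x j = 4 * a → i = j)
    (hc : D * c = (p ^ f) ^ A * N) (hN : N ∣ ∏ i ∈ s, F i) : ¬ r ^ (b + 1) ∣ c := by
  intro h
  have h1 : r ^ (b + 1) ∣ (p ^ f) ^ A * N := by rw [← hc]; exact h.mul_left D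
  have h2 : ¬ r ∣ (p ^ f) ^ A := by rw [← pow_mul]; exact E.prim.not_dvd_pow _
  have h3 := ((cop_pow E.prim.prime h2).dvd_of_dvd_mul_left h1).trans hN
  have hx1 : ∀ i ∈ s, 1 ≤ f * x i := fun i hi => Nat.mul_pos hf (hx i hi).1
  refine nd_prod s F E.prim.prime (fun i hi j hj hri hrj => hu i hi j hj ?_ ?_) (fun i hi => ?_) h3
  · exact E.eqf (hx1 i hi) (hx i hi).2 (hF i hi) hri
  · exact E.eqf (hx1 j hj) (hx j hj).2 (hF j hj) hrj
  · exact E.ndf (hx1 i hi) (hx i hi).2 (hF i hi)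

/-- exponents without repetition -/
theorem nd_list (hf : 1 ≤ f) {A D N M : ℕ} (L : List ℕ) (hL : L.Nodup) (hL1 : ∀ d ∈ L, 1 ≤ d ∧ d ≤ M)
    (hM : f * M ≤ 6 * a) (hc : D * c = (p ^ f) ^ A * N) (hN : N ∣ (L.map fun d => (p ^ f) ^ d - 1).prod) :
    ¬ r ^ (b + 1) ∣ c := by
  refine E.nd_fam (A := A) (D := D) (N := N) hf L.toFinset (fun d => (p ^ f) ^ d - 1) (fun d => d) (fun _ _ => dvd_rfl)
    (fun d hd => ?_) (fun i _ j _ hi hj => ?_) hc ?_
  · have := hL1 d (List.mem_toFinset.1 hd)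
    exact ⟨this.1, (Nat.mul_le_mul_left _ this.2).trans hM⟩
  · exact Nat.eq_of_mul_eq_mul_left (show 0 < f by omega) (hi.trans hj.symm)
  · rw [List.prod_toFinset _ hL]
    exact hN

omit E in
theorem inj (hf : 1 ≤ f) {x y : ℕ} (hi : f * x = 4 * a) (hj : f * y = 4 * a) : x = y :=
  Nat.eq_of_mul_eq_mul_left (show 0 < f by omega) (hi.trans hj.symm)

omit E in
theorem le_of (hf : 1 ≤ f) {x M k l : ℕ} (hM : f * M ≤ 6 * a) (hx : f * x = 4 * a) (h : k = 2 * M) (h' : l = 3 * x) :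
    k ≤ l := by
  subst h h'
  have h1 : f * (2 * M) ≤ f * (3 * x) := by
    calc f * (2 * M) = 2 * (f * M) := by ring
      _ ≤ 2 * (6 * a) := Nat.mul_le_mul_left _ hM
      _ = 3 * (4 * a) := by ring
      _ = 3 * (f * x) := by rw [hx]
      _ = f * (3 * x) := by ring
  exact Nat.le_of_mul_le_mul_left h1 (by omega)

theorem nd_psl (hf : 1 ≤ f) {m : ℕ} (hc : den (.psl m (p ^ f)) * c = num (.psl m (p ^ f)))
    (hM : f * Mg (.psl m (p ^ f)) ≤ 6 * a) : ¬ r ^ (b + 1) ∣ c := by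
  have hc1 : Nat.gcd m (p ^ f - 1) * (p ^ f - 1) * c = glN m (p ^ f) := hc
  rw [glN_eq] at hc1
  have hM' : f * m ≤ 6 * a := hM
  refine E.nd_fam hf (range m) _ (fun i => i + 1) (fun i _ => dvd_rfl) (fun i hi => ?_) (fun i _ j _ hi hj => ?_)
    hc1 dvd_rfl
  · rw [mem_range] at hi
    exact ⟨by omega, (Nat.mul_le_mul_left _ hi).trans hM'⟩
  · have := EX.inj hf hi hj
    omega

theorem nd_spLike (hf : 1 ≤ f) {m D : ℕ} (hc : D * c = (p ^ f) ^ (m ^ 2) * prB (p ^ f) m)
    (hM : f * (2 * m) ≤ 6 * a) : ¬ r ^ (b + 1) ∣ c := by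
  rw [prB_eq] at hc
  refine E.nd_fam hf (range m) _ (fun i => 2 * (i + 1)) (fun i _ => dvd_rfl) (fun i hi => ?_) (fun i _ j _ hi hj => ?_)
    hc dvd_rfl
  · rw [mem_range] at hi
    exact ⟨by omega, (Nat.mul_le_mul_left _ (by omega)).trans hM⟩
  · have := EX.inj hf hi hj
    omega

theorem nd_ominus (hf : 1 ≤ f) {m : ℕ} (hm : 4 ≤ m) (hc : den (.ominus m (p ^ f)) * c = num (.ominus m (p ^ f)))
    (hM : f * Mg (.ominus m (p ^ f)) ≤ 6 * a) : ¬ r ^ (b + 1) ∣ c := by
  have hc' : Nat.gcd 4 ((p ^ f) ^ m + 1) * c = (p ^ f) ^ (m * (m - 1)) * (((p ^ f) ^ m + 1) * prB (p ^ f) (m - 1)) := hc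
  have hM' : f * (2 * m) ≤ 6 * a := hM
  rw [prB_eq] at hc'
  refine E.nd_fam hf (range m) (fun i => if i = m - 1 then (p ^ f) ^ m + 1 else (p ^ f) ^ (2 * (i + 1)) - 1)
    (fun i => 2 * (i + 1)) (fun i hi => ?_) (fun i hi => ?_) (fun i _ j _ hi hj => ?_)
    hc' ?_
  · rw [mem_range] at hi
    split_ifs with h
    · have := add_dvd (p ^ f) m
      rwa [show 2 * (i + 1) = 2 * m by omega]
    · exact dvd_rfl
  · rw [mem_range] at hi
    exact ⟨by omega, (Nat.mul_le_mul_left _ (by omega)).trans hM'⟩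
  · have := EX.inj hf hi hj
    omega
  · obtain ⟨k, rfl⟩ : ∃ k, m = k + 1 := ⟨m - 1, by omega⟩
    rw [prod_range_succ, mul_comm]
    refine Nat.mul_dvd_mul ?_ ?_
    · rw [Nat.add_sub_cancel]
      refine dvd_of_eq (prod_congr rfl fun i hi => ?_)
      rw [mem_range] at hi
      rw [if_neg (by omega)]
    · rw [Nat.add_sub_cancel, if_pos rfl]

theorem nd_oplus (hf : 1 ≤ f) {m : ℕ} (hm : 4 ≤ m) (hc : den (.oplus m (p ^ f)) * c = num (.oplus m (p ^ f)))
    (hM : f * Mg (.oplus m (p ^ f)) ≤ 6 * a) (hne : ¬ (m = 4 ∧ f = a)) : ¬ r ^ (b + 1) ∣ c := by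
  have hc' : Nat.gcd 4 ((p ^ f) ^ m - 1) * c = (p ^ f) ^ (m * (m - 1)) * (((p ^ f) ^ m - 1) * prB (p ^ f) (m - 1)) := hc
  have hM' : f * (2 * (m - 1)) ≤ 6 * a := hM
  rw [prB_eq] at hc'
  have key : f * m = 4 * a → m ≠ 4 := by
    rintro hx rfl
    exact hne ⟨rfl, by omega⟩
  refine E.nd_fam hf (range m) (fun i => if i = m - 1 then (p ^ f) ^ m - 1 else (p ^ f) ^ (2 * (i + 1)) - 1)
    (fun i => if i = m - 1 then m else 2 * (i + 1)) (fun i hi => ?_) (fun i hi => ?_) (fun i hi' j hj' hi hj => ?_)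
    hc' ?_
  · split_ifs with h
    · exact dvd_rfl
    · exact dvd_rfl
  · rw [mem_range] at hi
    split_ifs with h
    · exact ⟨by omega, (Nat.mul_le_mul_left _ (by omega)).trans hM'⟩
    · exact ⟨by omega, (Nat.mul_le_mul_left _ (by omega)).trans hM'⟩
  · have h1 := EX.inj hf hi hj
    have h2 := EX.le_of hf hM' hi rfl rfl
    rw [mem_range] at hi' hj'
    split_ifs at h1 h2 hi hj with h3 h4 h4
    · omega
    · have := key hi
      omega
    · have := key hj
      omega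
    · omega
  · obtain ⟨k, rfl⟩ : ∃ k, m = k + 1 := ⟨m - 1, by omega⟩
    rw [prod_range_succ, mul_comm]
    refine Nat.mul_dvd_mul ?_ ?_
    · rw [Nat.add_sub_cancel]
      refine dvd_of_eq (prod_congr rfl fun i hi => ?_)
      rw [mem_range] at hi
      rw [if_neg (by omega)]
    · rw [Nat.add_sub_cancel, if_pos rfl]

theorem nd_psu (hf : 1 ≤ f) {m : ℕ} (hm : 3 ≤ m) (hc : den (.psu m (p ^ f)) * c = num (.psu m (p ^ f)))
    (hM : f * Mg (.psu m (p ^ f)) ≤ 6 * a) : ¬ r ^ (b + 1) ∣ c := by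
  have hc' : Nat.gcd m (p ^ f + 1) * (p ^ f + 1) * c = (p ^ f) ^ (m * (m - 1) / 2) * prU (p ^ f) m := hc
  have hM' : f * (2 * (if m % 2 = 0 then m - 1 else m)) ≤ 6 * a := hM
  unfold prU at hc'
  rw [prod_list] at hc'
  refine E.nd_fam hf (range m) _ (fun i => if i % 2 = 0 then 2 * (i + 1) else i + 1) (fun i hi => ?_) (fun i hi => ?_)
    (fun i hi' j hj' hi hj => ?_) hc' dvd_rfl
  · rcases Nat.mod_two_eq_zero_or_one i with h | h
    · rw [if_pos (by rw [h]; rfl), if_pos h]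
      exact add_dvd _ _
    · rw [if_neg (by rw [h]; decide), if_neg (by rw [h]; decide)]
  · rw [mem_range] at hi
    refine ⟨by split_ifs <;> omega, (Nat.mul_le_mul_left _ ?_).trans hM'⟩
    split_ifs <;> omega
  · have h1 := EX.inj hf hi hj
    have h2 := EX.le_of hf hM' hi rfl rfl
    rw [mem_range] at hi' hj'
    split_ifs at h1 h2 <;> omega

/-- **The exact power of `r` in the order of a group of Lie type.** -/
theorem nd_name (hp : p.Prime) {g : Grp} (hg : Cond g) (hch : HasChar p g) (hc : den g * c = num g)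
    (hfl : fld g = p ^ f) (hM : f * Mg g ≤ 6 * a) (hne : g ≠ .oplus 4 (p ^ a)) : ¬ r ^ (b + 1) ∣ c := by
  have hQ : 1 ≤ p ^ f := Nat.one_le_pow _ _ hp.pos
  have hff : ∀ {f'}, p ^ f' = p ^ f → f' = f := fun h => Nat.pow_right_injective hp.two_le h
  cases g
  case psl m q =>
    obtain ⟨f', rfl⟩ := hch
    obtain rfl := hff hfl
    exact E.nd_psl (f_pos hg.2.2 rfl) hc hM
  case psp m q =>
    obtain ⟨f', rfl⟩ := hch
    obtain rfl := hff hfl
    exact E.nd_spLike (f_pos hg.2.2 rfl) (hc : Nat.gcd 2 (p ^ f' - 1) * c = (p ^ f') ^ (m ^ 2) * prB (p ^ f') m) hM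
  case psu m q =>
    obtain ⟨f', rfl⟩ := hch
    obtain rfl := hff hfl
    exact E.nd_psu (f_pos hg.2.2 rfl) hg.1 hc hM
  case oodd m q =>
    obtain ⟨f', rfl⟩ := hch
    obtain rfl := hff hfl
    exact E.nd_spLike (f_pos hg.2.2 rfl) (hc : 2 * c = (p ^ f') ^ (m ^ 2) * prB (p ^ f') m) hM
  case oplus m q =>
    obtain ⟨f', rfl⟩ := hch
    obtain rfl := hff hfl
    refine E.nd_oplus (f_pos hg.2 rfl) hg.1 hc hM ?_
    rintro ⟨rfl, rfl⟩
    exact hne rfl
  case ominus m q =>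
    obtain ⟨f', rfl⟩ := hch
    obtain rfl := hff hfl
    exact E.nd_ominus (f_pos hg.2 rfl) hg.1 hc hM
  case g2 q =>
    obtain ⟨f', rfl⟩ := hch
    obtain rfl := hff hfl
    have h : 1 * c = (p ^ f') ^ 6 * (((p ^ f') ^ 2 - 1) * ((p ^ f') ^ 6 - 1)) := hc
    refine E.nd_list (M := 6) (f_pos hg.2 rfl) [2, 6] (by decide) (by decide) hM h ?_
    simp only [List.map_cons, List.map_nil, List.prod_cons, List.prod_nil, mul_one, dvd_refl]
  case f4 q =>
    obtain ⟨f', rfl⟩ := hch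
    obtain rfl := hff hfl
    have h : 1 * c = (p ^ f') ^ 24 * (((p ^ f') ^ 2 - 1) * ((p ^ f') ^ 6 - 1) * ((p ^ f') ^ 8 - 1) *
      ((p ^ f') ^ 12 - 1)) := hc
    refine E.nd_list (M := 12) (f_pos hg rfl) [2, 6, 8, 12] (by decide) (by decide) hM h ?_
    simp only [List.map_cons, List.map_nil, List.prod_cons, List.prod_nil, mul_one, mul_assoc, dvd_refl]
  case e6 q =>
    obtain ⟨f', rfl⟩ := hch
    obtain rfl := hff hfl
    have h : Nat.gcd 3 (p ^ f' - 1) * c = (p ^ f') ^ 36 * (((p ^ f') ^ 2 - 1) * ((p ^ f') ^ 5 - 1) * ((p ^ f') ^ 6 - 1) *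
      ((p ^ f') ^ 8 - 1) * ((p ^ f') ^ 9 - 1) * ((p ^ f') ^ 12 - 1)) := hc
    refine E.nd_list (M := 12) (f_pos hg rfl) [2, 5, 6, 8, 9, 12] (by decide) (by decide) hM h ?_
    simp only [List.map_cons, List.map_nil, List.prod_cons, List.prod_nil, mul_one, mul_assoc, dvd_refl]
  case e7 q =>
    obtain ⟨f', rfl⟩ := hch
    obtain rfl := hff hfl
    have h : Nat.gcd 2 (p ^ f' - 1) * c = (p ^ f') ^ 63 * (((p ^ f') ^ 2 - 1) * ((p ^ f') ^ 6 - 1) *
      ((p ^ f') ^ 8 - 1) * ((p ^ f') ^ 10 - 1) * ((p ^ f') ^ 12 - 1) * ((p ^ f') ^ 14 - 1) *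
      ((p ^ f') ^ 18 - 1)) := hc
    refine E.nd_list (M := 18) (f_pos hg rfl) [2, 6, 8, 10, 12, 14, 18] (by decide) (by decide) hM h ?_
    simp only [List.map_cons, List.map_nil, List.prod_cons, List.prod_nil, mul_one, mul_assoc, dvd_refl]
  case e8 q =>
    obtain ⟨f', rfl⟩ := hch
    obtain rfl := hff hfl
    have h : 1 * c = (p ^ f') ^ 120 * (((p ^ f') ^ 2 - 1) * ((p ^ f') ^ 8 - 1) * ((p ^ f') ^ 12 - 1) *
      ((p ^ f') ^ 14 - 1) * ((p ^ f') ^ 18 - 1) * ((p ^ f') ^ 20 - 1) * ((p ^ f') ^ 24 - 1) *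
      ((p ^ f') ^ 30 - 1)) := hc
    refine E.nd_list (M := 30) (f_pos hg rfl) [2, 8, 12, 14, 18, 20, 24, 30] (by decide) (by decide) hM h ?_
    simp only [List.map_cons, List.map_nil, List.prod_cons, List.prod_nil, mul_one, mul_assoc, dvd_refl]
  case te6 q =>
    obtain ⟨f', rfl⟩ := hch
    obtain rfl := hff hfl
    have h : Nat.gcd 3 (p ^ f' + 1) * c = (p ^ f') ^ 36 * (((p ^ f') ^ 2 - 1) * ((p ^ f') ^ 5 + 1) * ((p ^ f') ^ 6 - 1) *
      ((p ^ f') ^ 8 - 1) * ((p ^ f') ^ 9 + 1) * ((p ^ f') ^ 12 - 1)) := hc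
    refine E.nd_list (M := 18) (f_pos hg rfl) [2, 10, 6, 8, 18, 12] (by decide) (by decide) hM h ?_
    simp only [List.map_cons, List.map_nil, List.prod_cons, List.prod_nil, mul_one]
    have h1 := add_dvd (p ^ f') 5
    have h2 := add_dvd (p ^ f') 9
    norm_num only at h1 h2
    rw [mul_assoc, mul_assoc, mul_assoc, mul_assoc]
    exact Nat.mul_dvd_mul_left _ (Nat.mul_dvd_mul h1 (Nat.mul_dvd_mul_left _ (Nat.mul_dvd_mul_left _
      (Nat.mul_dvd_mul_right h2 _))))
  case td4 q =>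
    obtain ⟨f', rfl⟩ := hch
    obtain rfl := hff hfl
    have h : 1 * c = (p ^ f') ^ 12 * (((p ^ f') ^ 2 - 1) * ((p ^ f') ^ 6 - 1) * ((p ^ f') ^ 8 + (p ^ f') ^ 4 + 1)) := hc
    refine E.nd_list (M := 12) (f_pos hg rfl) [2, 6, 12] (by decide) (by decide) hM h ?_
    simp only [List.map_cons, List.map_nil, List.prod_cons, List.prod_nil, mul_one]
    rw [mul_assoc ((p ^ f') ^ 2 - 1)]
    refine Nat.mul_dvd_mul_left _ (Nat.mul_dvd_mul_left _ ?_)
    rw [td4_eq hQ]
    exact Dvd.intro _ rfl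
  case sz q =>
    obtain ⟨f', rfl⟩ := hch
    obtain rfl := hff hfl
    obtain ⟨m, hm, hqm⟩ := hg
    have hf : 1 ≤ f' := f_pos' (q := p ^ f') (by rw [hqm]; exact Nat.one_lt_two_pow (by omega)) rfl
    have h : 1 * c = (p ^ f') ^ 2 * ((p ^ f' - 1) * ((p ^ f') ^ 2 + 1)) := hc
    refine E.nd_list (M := 4) hf [1, 4] (by decide) (by decide) hM h ?_
    simp only [List.map_cons, List.map_nil, List.prod_cons, List.prod_nil, mul_one]
    have h1 := add_dvd (p ^ f') 2
    norm_num only at h1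
    rw [pow_one]
    exact Nat.mul_dvd_mul_left _ h1
  case ree q =>
    obtain ⟨f', rfl⟩ := hch
    obtain rfl := hff hfl
    obtain ⟨m, hm, hqm⟩ := hg
    have hf : 1 ≤ f' := f_pos' (q := p ^ f') (by rw [hqm]; exact Nat.one_lt_pow (by omega) (by norm_num)) rfl
    have h : 1 * c = (p ^ f') ^ 3 * ((p ^ f' - 1) * ((p ^ f') ^ 3 + 1)) := hc
    refine E.nd_list (M := 6) hf [1, 6] (by decide) (by decide) hM h ?_
    simp only [List.map_cons, List.map_nil, List.prod_cons, List.prod_nil, mul_one]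
    have h1 := add_dvd (p ^ f') 3
    norm_num only at h1
    rw [pow_one]
    exact Nat.mul_dvd_mul_left _ h1
  case tf4 q =>
    obtain ⟨f', rfl⟩ := hch
    obtain rfl := hff hfl
    obtain ⟨m, hm, hqm⟩ := hg
    have hf : 1 ≤ f' := f_pos' (q := p ^ f') (by rw [hqm]; exact Nat.one_lt_two_pow (by omega)) rfl
    have h : 1 * c = (p ^ f') ^ 12 * ((p ^ f' - 1) * ((p ^ f') ^ 3 + 1) * ((p ^ f') ^ 4 - 1) * ((p ^ f') ^ 6 + 1)) := hc
    refine E.nd_list (M := 12) hf [1, 6, 4, 12] (by decide) (by decide) hM h ?_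
    simp only [List.map_cons, List.map_nil, List.prod_cons, List.prod_nil, mul_one]
    have h1 := add_dvd (p ^ f') 3
    have h2 := add_dvd (p ^ f') 6
    norm_num only at h1 h2
    rw [mul_assoc, mul_assoc, pow_one]
    exact Nat.mul_dvd_mul_left _ (Nat.mul_dvd_mul h1 (Nat.mul_dvd_mul_left _ h2))
  all_goals exact absurd hch not_false

end EX

end Cfsg.Agent.H659.O8
end

-- part: H659/O8/Own
section
/-!
# COV-O8+ (S2499): `own_card`, the subgroups of `PΩ₈⁺(q)` with a socle of Lie type in the same characteristic (helper659)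
-/

set_option autoImplicit false

namespace Cfsg.Agent.H659.O8

open Cfsg Cfsg.Geo Cfsg.Agent.OrdDiv Cfsg.Agent.H436 Cfsg.Agent.H915.GN Cfsg.Agent.H264.GN Cfsg.Agent.H264.FKS
open Cfsg.Agent.H902 Cfsg.Agent.H902.Names Cfsg.Agent.H708.O8 Cfsg.Agent.H915.LD Cfsg.Agent.H884.El
open scoped MatrixGroups Matrix

universe u

variable {p a r b c : ℕ} {g : Grp}

theorem ex_of_rb (h : RB p a r b) : EX p a r b := by
  refine ⟨h.ha, h.prim, fun h1 => ?_⟩
  have h2 : p ^ (4 * a) - 1 = (p ^ (2 * a) - 1) * (p ^ (2 * a) + 1) := by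
    rw [show 4 * a = (2 * a) * 2 by ring, pow_mul]
    have := Nat.sq_sub_sq (p ^ (2 * a)) 1
    rw [one_pow] at this
    rw [this, mul_comm]
  rw [h2] at h1
  have h3 : ¬ r ∣ p ^ (2 * a) - 1 := by
    rw [h.prim.dvd_iff]
    intro h4
    have h5 := h.ha
    have := Nat.le_of_dvd (by omega) h4
    omega
  exact h.not_dvd ((cop_pow h.prim.prime h3).dvd_of_dvd_mul_left h1)

/-- the exponents are at most `6 a` -/
theorem top_le (hp : p.Prime) (ha : 1 ≤ a) {f : ℕ} {X Y : ℕ → Prop} {M A : ℕ} (hK : KD p f c X Y M A) (hY : Y M)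
    {XT : ℕ → Prop} {aT : ℕ} (hT : TD p a c XT 6 aT) : f * M ≤ 6 * a := by
  by_cases h3 : 3 ≤ f * M
  · by_cases h6 : p = 2 ∧ f * M = 6
    · omega
    · obtain ⟨t, ht⟩ := exists_prim hp.two_le h3 h6
      obtain ⟨i, hi, hd⟩ := hT.exp ht (hK.has hY h3 ht)
      have h1 := hT.le hi
      have h2 := Nat.le_of_dvd (Nat.mul_pos ha h1.1) hd
      calc f * M ≤ a * i := h2
        _ ≤ a * 6 := Nat.mul_le_mul_left _ h1.2
        _ = 6 * a := by ring
  · omega

/-- the largest exponent is at least two -/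
theorem two_le_Mg (hg : Cond g) (hch : HasChar p g) : 2 ≤ Mg g := by
  cases g
  case psl m q => exact hg.1
  case psp m q =>
    show 2 ≤ 2 * m
    have := hg.1
    omega
  case psu m q =>
    show 2 ≤ 2 * (if m % 2 = 0 then m - 1 else m)
    have := hg.1
    split_ifs <;> omega
  case oodd m q =>
    show 2 ≤ 2 * m
    have := hg.1
    omega
  case oplus m q =>
    show 2 ≤ 2 * (m - 1)
    have := hg.1
    omega
  case ominus m q =>
    show 2 ≤ 2 * m
    have := hg.1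
    omega
  case g2 q => show 2 ≤ 6; norm_num
  case f4 q => show 2 ≤ 12; norm_num
  case e6 q => show 2 ≤ 12; norm_num
  case e7 q => show 2 ≤ 18; norm_num
  case e8 q => show 2 ≤ 30; norm_num
  case te6 q => show 2 ≤ 18; norm_num
  case td4 q => show 2 ≤ 12; norm_num
  case sz q => show 2 ≤ 4; norm_num
  case ree q => show 2 ≤ 6; norm_num
  case tf4 q => show 2 ≤ 12; norm_num
  all_goals exact absurd hch not_false

/-- `r` does not divide the order of the group of diagonal outer automorphisms -/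
theorem not_dvd_dd (E : EX p a r b) (h5 : 5 ≤ r) {X : Art.Sh} {f : ℕ} (hg : Cond g) (h : IsLie g X p f)
    (hf : 1 ≤ f) (hM : f * Mg g ≤ 6 * a) : ¬ r ∣ Art.dd X (p ^ f) := by
  have ha := E.ha
  have h4 : ∀ {m n : ℕ}, m ≤ 4 → 0 < m → r ∣ Nat.gcd m n → False := fun h1 h2 h3 => by
    have := Nat.le_of_dvd h2 (h3.trans (Nat.gcd_dvd_left _ _))
    omega
  have h1 : r ∣ 1 → False := fun h => by
    have := Nat.dvd_one.1 h
    omega
  intro hd
  cases h with
  | psl n p f =>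
    have hd' : r ∣ Nat.gcd n (p ^ f - 1) := hd
    have h2 := hd'.trans (Nat.gcd_dvd_right _ _)
    rw [E.prim.dvd_iff] at h2
    have h3 := Nat.le_of_dvd (by omega) h2
    have h6 : f * 2 ≤ f * n := Nat.mul_le_mul_left _ hg.1
    have h7 : f * n ≤ 6 * a := hM
    omega
  | psu n p f =>
    have hd' : r ∣ Nat.gcd n (p ^ f + 1) := hd
    have h2 := hd'.trans (Nat.gcd_dvd_right _ _)
    have h3 := h2.trans (add_dvd p f)
    rw [E.prim.dvd_iff] at h3
    have h6 := Nat.le_of_dvd (by omega) h3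
    have h7 : f * (2 * (if n % 2 = 0 then n - 1 else n)) ≤ 6 * a := hM
    have h8 : f * 6 ≤ f * (2 * (if n % 2 = 0 then n - 1 else n)) := by
      apply Nat.mul_le_mul_left
      have := hg.1
      split_ifs <;> omega
    omega
  | psp n p f => exact h4 (by norm_num) (by norm_num) hd
  | oodd n p f hn ho => exact h4 (by norm_num) (by norm_num) hd
  | oplus n p f => exact h4 (by norm_num) (by norm_num) hd
  | ominus n p f => exact h4 (by norm_num) (by norm_num) hd
  | e6 p f => exact h4 (by norm_num) (by norm_num) hd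
  | e7 p f => exact h4 (by norm_num) (by norm_num) hd
  | te6 p f => exact h4 (by norm_num) (by norm_num) hd
  | _ => exact h1 hd

/-- **The order of the subgroups with socle of Lie type in characteristic `p`, divisibility form.** -/
theorem not_dvd_card (hp : p.Prime) (E : EX p a r b) {R : Type u} [Group R] [Finite R] (S : Subgroup R) [S.Normal]
    [IsSimpleGroup S] (hna : ¬ IsMulCommutative S) (hC : Subgroup.centralizer (S : Set R) = ⊥) (hn : IsNamed g S)
    (hch : HasChar p g) (hT : TD p a (Nat.card S) (fun i => 1 ≤ i ∧ i ≤ 6 ∧ (2 ∣ i ∨ i = 4)) 6 12)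
    (hne : g ≠ .oplus 4 (p ^ a)) : ¬ r ^ (b + 1) ∣ Nat.card R := by
  intro h
  have ha := E.ha
  obtain ⟨f, hf, hfl, hK, hY⟩ := kd_all hp hn.cond hch hn.eq
  have hM := top_le hp ha hK hY hT
  have h2 : 4 * a < r := lt_of_prim E.prim
  have h5 : 5 ≤ r := by omega
  have h2M : f * 2 ≤ f * Mg g := Nat.mul_le_mul_left _ (two_le_Mg hn.cond hch)
  have hS := E.nd_name hp hn.cond hch hn.eq hfl hM hne
  have h1 := h.trans (dvd_aut S hC)
  rw [← H934.OutB.card_out_mul S hna] at h1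
  obtain ⟨X, f₁, h6, h7, h8⟩ := exists_lie hp hn hch
  obtain rfl : f₁ = f := Nat.pow_right_injective hp.two_le (h8.symm.trans hfl)
  have hout : ¬ r ∣ Nat.card (Cfsg.Out S) := by
    intro h9
    obtain ⟨k, h10, h11, -⟩ := H364.OutLie.card_out (not_comm hna) h6 hn.real h7
    rw [h10] at h9
    rcases E.prim.prime.dvd_mul.1 h9 with h12 | h12
    · rcases E.prim.prime.dvd_mul.1 (h12.trans h11) with h13 | h13
      · have h14 : r ∣ 2 ^ 3 * 3 := h13
        rcases E.prim.prime.dvd_mul.1 h14 with h15 | h15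
        · have := Nat.le_of_dvd (by norm_num) (E.prim.prime.dvd_of_dvd_pow h15)
          omega
        · have := Nat.le_of_dvd (by norm_num) h15
          omega
      · exact not_dvd_dd E h5 hn.cond h6 hf hM h13
    · have := Nat.le_of_dvd (by omega) h12
      omega
  exact hS ((cop_pow E.prim.prime hout).dvd_of_dvd_mul_left h1)

section
variable {F : Type} [Field F] [Fintype F]

/-- **R1: own characteristic** -/
theorem own_card (hF : Nat.card F = p ^ a) (h : RB p a r b)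
    {R : Subgroup (T8 F)} (hR : R ≠ ⊤) (S : Subgroup R) [S.Normal] (hS : IsSimpleGroup S) (hna : ¬ IsMulCommutative S)
    (hC : Subgroup.centralizer (S : Set R) = ⊥) {P : Subgroup (GL I8 F)}
    (_hP : IsResidualCore (pre (quadFormPlus 4 F) R) P) (e : S ≃* Soc P) (hL : IsLieTypeChar p (Soc P)) :
    ¬ r ^ (b + 1) ∣ Nat.card R := by
  have hp := h.hp
  have ha := h.ha
  obtain ⟨g, hn, hch⟩ := named_of_lie hp (OddHalf.Known.isLieTypeChar_congr e.symm hL)
  have hT8 : Nat.gcd 4 ((p ^ a) ^ 4 - 1) * Nat.card (T8 F) =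
      (p ^ a) ^ (4 * (4 - 1)) * (((p ^ a) ^ 4 - 1) * prB (p ^ a) (4 - 1)) := by
    have h1 := oplus_eq (F := F) (m := 4) le_rfl
    rw [← Nat.card_eq_fintype_card, hF] at h1
    exact h1
  have hSR : Nat.card S ∣ Nat.card (T8 F) := (Subgroup.card_subgroup_dvd_card S).trans (Subgroup.card_subgroup_dvd_card R)
  have hT : TD p a (Nat.card S) (fun i => 1 ≤ i ∧ i ≤ 6 ∧ (2 ∣ i ∨ i = 4)) 6 12 := by
    refine td_oplus hp ha (n := 4) (by norm_num) (hSR.trans ?_)
    rw [← hT8]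
    exact Dvd.intro_left _ rfl
  refine not_dvd_card hp (ex_of_rb h) S hna hC hn hch hT ?_
  rintro rfl
  have h1 : Nat.gcd 4 ((p ^ a) ^ 4 - 1) * Nat.card S =
      (p ^ a) ^ (4 * (4 - 1)) * (((p ^ a) ^ 4 - 1) * prB (p ^ a) (4 - 1)) := hn.eq
  rw [← hT8] at h1
  have h2 : Nat.card S = Nat.card (T8 F) :=
    Nat.eq_of_mul_eq_mul_left (Nat.gcd_pos_of_pos_left _ (by norm_num)) h1
  have h3 : Nat.card S ≤ Nat.card R := Nat.le_of_dvd Nat.card_pos (Subgroup.card_subgroup_dvd_card S)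
  exact hR (Subgroup.eq_top_of_le_card R (h2 ▸ h3))

end

end Cfsg.Agent.H659.O8
end
end

-- part: H834/O8/Symp
section
set_option linter.all false
open scoped Cfsg.Agent.FastGrp

/-!
# COV-O8+: the normaliser of a group of symplectic type in `GL₈(q)` (helper834)

`card_dvd` : the order of a subgroup of the normaliser of a group `R` of symplectic type divides
`|R| (q - 1) |Sp_{2m}(s)|`.
-/

set_option autoImplicit false

namespace Cfsg.Agent.H708.O8

open Module QuadraticMap Cfsg Cfsg.Geo Cfsg.Agent.LieClassical.OrthCore Cfsg.Agent.H955 Cfsg.Agent.H954.TSing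
open Cfsg.Agent.LieClassical.OmegaReindex Cfsg.Agent.H915.LD
open Cfsg.Agent.H951 (fx cm Inv)
open Cfsg.Agent.H884.El
open Cfsg.Agent.H436 (Prim)
open scoped MatrixGroups Matrix

section gen

variable {ι : Type} [Fintype ι] [DecidableEq ι] {F : Type*} [Field F] [Fintype F]

theorem exists_coord_of [Nonempty ι] {s m : ℕ} {R : Subgroup (GL ι F)}
    (habs : ActsAbsolutelyIrreducibly (matrixSet R)) (hR : IsSymplecticTypeGroup s R) (hm : 1 ≤ m)
    (hcard : Fintype.card ι = s ^ m)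
    (ht : (Odd s ∧ Nat.card (Subgroup.center R) = s ∧ Nat.card R = s ^ (1 + 2 * m)) ∨
       (s = 2 ∧ Nat.card (Subgroup.center R) = 4 ∧ Nat.card R = 2 ^ (2 + 2 * m)) ∨
       (s = 2 ∧ Nat.card (Subgroup.center R) = 2 ∧ Nat.card R = 2 ^ (1 + 2 * m))) :
    Nonempty (H920.Coord R s m) := by
  have hfin : Finite (GL ι F) := inferInstance
  have hpr := Fact.mk hR.prime
  have hcomm : ∀ x ∈ R, ∀ y ∈ R, x * y * x⁻¹ * y⁻¹ ∈ scalars ι F := by
    intro x hx y hy
    have hZ : Odd s → Nat.card (Subgroup.center R) = s := by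
      intro hodd
      rcases ht with h | h | h
      · exact h.2.1
      · rw [h.1] at hodd; exact absurd hodd (by decide)
      · rw [h.1] at hodd; exact absurd hodd (by decide)
    exact H920.mem_scalars_of_mem_center habs (H921.commutator_mem_center hR hZ ⟨x, hx⟩ ⟨y, hy⟩)
  have hpow : ∀ x ∈ R, x ^ s ∈ scalars ι F := by
    rcases ht with h | h | h
    · exact H920.pow_of_type hR habs (Or.inl h)
    · exact H920.pow_of_type hR habs (Or.inr h)
    · obtain ⟨rfl, hZ, -⟩ := h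
      intro x hx
      have hexp : Monoid.exponent R = 4 := by rw [hR.exponent_eq]; norm_num
      have h4 : ∀ q : R, q ^ 4 = 1 := fun q => by rw [← hexp]; exact Monoid.pow_exponent_eq_one q
      have : Nontrivial (Subgroup.center R) := Finite.one_lt_card_iff_nontrivial.1 (by rw [hZ]; norm_num)
      obtain ⟨z, hz⟩ := exists_ne (1 : Subgroup.center R)
      have hz2 : orderOf z = 2 := by
        have h1 : orderOf z ∣ 2 := by rw [← hZ]; exact orderOf_dvd_natCard z
        rcases (Nat.dvd_prime Nat.prime_two).1 h1 with h2 | h2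
        · exact absurd (orderOf_eq_one_iff.1 h2) hz
        · exact h2
      have hz2' : orderOf (z : R) = 2 := by rw [Subgroup.orderOf_coe, hz2]
      have hst := (Cfsg.Agent.ClassificationK.SymplecticExpFour.structure_exp_four
        ⟨hR.pGroup, hR.cyclic_of_characteristic⟩ h4 hz2' z.2).2.1 ⟨x, hx⟩
      rcases hst with h | h
      · have h5 : x ^ 2 = 1 := congrArg Subtype.val h
        rw [h5]; exact Subgroup.one_mem _
      · have h5 : x ^ 2 = ((z : R) : GL ι F) := congrArg Subtype.val h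
        rw [h5]; exact H920.mem_scalars_of_mem_center habs z.2
  exact H920.exists_coord habs hcomm hR.prime hm hpow hcard

theorem card_dvd_of_coord [Nonempty ι] {r k : ℕ} {R H : Subgroup (GL ι F)} (hr : r.Prime)
    (habs : ActsAbsolutelyIrreducibly (matrixSet R)) (C : H920.Coord R r k) (hH : H ≤ subgroupNormalizer R) :
    Nat.card H ∣ Nat.card R * (Nat.card F - 1) * Nat.card (Matrix.symplecticGroup (Fin k) (ZMod r)) := by
  have hfin : Finite (GL ι F) := inferInstance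
  have hrF := Fact.mk hr
  let ψ : H →* Matrix.symplecticGroup (Fin k) (ZMod r) :=
    MonoidHom.mk' (fun g => ⟨(C.exists_ind_of_mem (hH g.2)).choose, (C.exists_ind_of_mem (hH g.2)).choose_spec.1⟩) (by
      intro g h
      apply Subtype.ext
      exact ((C.exists_ind_of_mem (hH (g * h).2)).choose_spec.2).unique
        (((C.exists_ind_of_mem (hH g.2)).choose_spec.2).mul ((C.exists_ind_of_mem (hH h.2)).choose_spec.2)))
  have hψ : ∀ g : H, C.Ind (g : GL ι F) (ψ g : Matrix (Fin k ⊕ Fin k) (Fin k ⊕ Fin k) (ZMod r)) := fun g =>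
    (C.exists_ind_of_mem (hH g.2)).choose_spec.2
  have h1 : Nat.card H = Nat.card ψ.ker * Nat.card ψ.range := by
    rw [Subgroup.card_eq_card_quotient_mul_card_subgroup ψ.ker, mul_comm]
    congr 1
    exact Nat.card_congr (QuotientGroup.quotientKerEquivRange ψ).toEquiv
  have h2 : Nat.card ψ.range ∣ Nat.card (Matrix.symplecticGroup (Fin k) (ZMod r)) := Subgroup.card_subgroup_dvd_card _
  have h3 : Nat.card ψ.ker ∣ Nat.card R * (Nat.card F - 1) := by
    have h4 : ψ.ker.map H.subtype ≤ R ⊔ scalars ι F := by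
      rintro _ ⟨g, hg, rfl⟩
      have h5 := hψ g
      have h6 : ψ g = 1 := hg
      rw [h6] at h5
      obtain ⟨x, hx⟩ := C.mem_of_ind_one habs h5
      have h2 := Subgroup.mul_mem_sup x.2 hx
      rwa [mul_inv_cancel_left] at h2
    have h5 : Nat.card (ψ.ker.map H.subtype) = Nat.card ψ.ker :=
      Nat.card_congr (ψ.ker.equivMapOfInjective _ H.subtype_injective).symm.toEquiv
    rw [← h5]
    refine (Subgroup.card_dvd_of_le h4).trans ?_
    refine (H251.GeoCard.card_sup_dvd _ _ fun z hz g => H251.GeoCard.scalars_central hz g).trans ?_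
    exact mul_dvd_mul_left _ H251.GeoCard.card_scalars_dvd
  rw [h1]
  exact mul_dvd_mul h3 h2

end gen

variable {F : Type} [Field F] [Fintype F] {p a r b : ℕ}

/-- G5: groups of symplectic type -/
theorem kill_symp (hF : Nat.card F = p ^ a) (h : RB p a r b) {s m : ℕ} {E H : Subgroup (GL I8 F)} (hE : E ≤ H)
    (hH : H ≤ subgroupNormalizer E)
    (habs : ActsAbsolutelyIrreducibly (matrixSet E)) (hR : IsSymplecticTypeGroup s E) (hm : 1 ≤ m)
    (hcard : Fintype.card I8 = s ^ m)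
    (ht : (Odd s ∧ Nat.card (Subgroup.center E) = s ∧ Nat.card E = s ^ (1 + 2 * m)) ∨
       (s = 2 ∧ Nat.card (Subgroup.center E) = 4 ∧ Nat.card E = 2 ^ (2 + 2 * m)) ∨
       (s = 2 ∧ Nat.card (Subgroup.center E) = 2 ∧ Nat.card E = 2 ^ (1 + 2 * m))) : ¬ r ^ 2 ∣ Nat.card H := by
  intro hdvd
  obtain ⟨C⟩ := exists_coord_of habs hR hm hcard ht
  have h8 : s ^ m = 2 ^ 3 := by rw [← hcard]; simp
  have hs2 : s = 2 := by
    have h1 : s ∣ 2 ^ 3 := by rw [← h8]; exact dvd_pow_self _ (by omega)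
    exact (Nat.prime_dvd_prime_iff_eq hR.prime Nat.prime_two).1 (hR.prime.dvd_of_dvd_pow h1)
  subst hs2
  have hm3 : m = 3 := Nat.pow_right_injective (le_refl 2) h8
  subst hm3
  have hr := h.prim.prime
  have hr5 : 5 ≤ r ∧ r ≠ 7 := by
    rcases h.cases with h1 | h1 | h1 <;> omega
  have hdvd' := hdvd.trans (card_dvd_of_coord Nat.prime_two habs C hH)
  have hc1 : Nat.Coprime (r ^ 2) (Nat.card E) := by
    obtain ⟨n, hn⟩ : ∃ n, Nat.card E = 2 ^ n := by
      rcases ht with h1 | h1 | h1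
      · exact absurd h1.1 (by decide)
      · exact ⟨_, h1.2.2⟩
      · exact ⟨_, h1.2.2⟩
    rw [hn]
    exact Nat.Coprime.pow _ _ ((Nat.coprime_primes hr Nat.prime_two).2 (by omega))
  have hc2 : Nat.Coprime (r ^ 2) (Nat.card F - 1) := by
    apply Nat.Coprime.pow_left
    rw [hr.coprime_iff_not_dvd, hF, h.prim.dvd_iff]
    intro h1
    have h2 := Nat.le_of_dvd h.ha h1
    have h3 := h.ha
    omega
  have h1 := (Nat.Coprime.mul_right hc1 hc2).dvd_of_dvd_mul_left hdvd'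
  rw [LieClassical.SympCount.card_symplecticGroup, ZMod.card] at h1
  have h2 : (2 : ℕ) ^ (3 ^ 2) * ∏ i ∈ Finset.range 3, (2 ^ (2 * (i + 1)) - 1) = 2 ^ 9 * 3 ^ 4 * (5 * 7) := by decide
  rw [h2] at h1
  have c2 : Nat.Coprime (r ^ 2) (2 ^ 9) := Nat.Coprime.pow _ _ ((Nat.coprime_primes hr Nat.prime_two).2 (by omega))
  have c3 : Nat.Coprime (r ^ 2) (3 ^ 4) := Nat.Coprime.pow _ _ ((Nat.coprime_primes hr Nat.prime_three).2 (by omega))
  have h3 := (Nat.Coprime.mul_right c2 c3).dvd_of_dvd_mul_left h1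
  have h4 := Nat.le_of_dvd (by norm_num) h3
  have h5 : r < 6 := by nlinarith
  have h6 : r = 5 := by omega
  subst h6
  norm_num at h3

end Cfsg.Agent.H708.O8
end

-- part: H105/O8/Cross
section
set_option linter.all false
open scoped Cfsg.Agent.FastGrp

/-!
# COV-O8+ (S2499): `cross_card`, the subgroups of `PΩ₈⁺(q)`, `q ≥ 4`, whose socle is not of Lie type in the characteristic
(helper105)

`aut_dvd`: the order of the automorphism group of every candidate of `H936.List12.list₁` in degree 8 divides `BB`.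
-/

set_option autoImplicit false

namespace Cfsg.Agent.H105.O8

open Cfsg Cfsg.Geo Cfsg.Agent.OrdDiv Cfsg.Agent.H436 Cfsg.Agent.H264.FKS Cfsg.Agent.H902
open Cfsg.Agent.H902.Names Cfsg.Agent.H708.O8 Cfsg.Agent.H915.LD Cfsg.Agent.H884.El Cfsg.Agent.H936.List12
open Cfsg.Agent.H912.Bd Cfsg.Agent.H912.Five
open scoped MatrixGroups Matrix

universe u

/-- a multiple of the orders of the automorphism groups of all candidates -/
def BB : ℕ := 2 ^ 40 * 3 ^ 20 * 5 ^ 2 * 7 ^ 4 * 11 ^ 2 * 13 * 17 * 19 * 23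

theorem not_sq {r : ℕ} (hr : r.Prime) (h13 : 13 ≤ r) : ¬ r ^ 2 ∣ BB := by
  intro h
  have h1 : r ∣ BB := (dvd_pow_self r two_ne_zero).trans h
  have key : r = 13 ∨ r = 17 ∨ r = 19 ∨ r = 23 := by
    have hs : ∀ {s k : ℕ}, s.Prime → r ∣ s ^ k → r = s := fun hs h =>
      (Nat.prime_dvd_prime_iff_eq hr hs).1 (hr.dvd_of_dvd_pow h)
    have hs1 : ∀ {s : ℕ}, s.Prime → r ∣ s → r = s := fun hs h => (Nat.prime_dvd_prime_iff_eq hr hs).1 h
    unfold BB at h1
    rcases hr.dvd_mul.1 h1 with h1 | h1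
    rcases hr.dvd_mul.1 h1 with h1 | h1
    rcases hr.dvd_mul.1 h1 with h1 | h1
    rcases hr.dvd_mul.1 h1 with h1 | h1
    rcases hr.dvd_mul.1 h1 with h1 | h1
    rcases hr.dvd_mul.1 h1 with h1 | h1
    rcases hr.dvd_mul.1 h1 with h1 | h1
    rcases hr.dvd_mul.1 h1 with h1 | h1
    · have := hs Nat.prime_two h1; omega
    · have := hs Nat.prime_three h1; omega
    · have := hs Nat.prime_five h1; omega
    · have := hs (by norm_num) h1; omega
    · have := hs (by norm_num) h1; omega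
    · have := hs1 (by norm_num) h1; omega
    · have := hs1 (by norm_num) h1; omega
    · have := hs1 (by norm_num) h1; omega
    · have := hs1 (by norm_num) h1; omega
  unfold BB at h
  rcases key with rfl | rfl | rfl | rfl <;> norm_num at h

theorem not_cube : ¬ 5 ^ 3 ∣ BB := by
  unfold BB
  norm_num

/-- **The numbers.** -/
theorem not_dvd {p a r b : ℕ} (h : RB p a r b) (h4 : 4 ≤ p ^ a) {N : ℕ} (hN : N ∣ BB) : ¬ r ^ (b + 1) ∣ N := by
  intro h1
  have h2 := h1.trans hN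
  rcases h.cases with ⟨h3, h5⟩ | ⟨rfl, h5, -⟩ | ⟨-, -, h5, rfl⟩
  · exact not_sq h.prim.prime h3 ((pow_dvd_pow r (by omega)).trans h2)
  · exact not_cube ((pow_dvd_pow 5 (by omega)).trans h2)
  · rcases h5 with rfl | rfl <;> norm_num at h4

section
variable {S : Type u} [Group S] [Finite S] [IsSimpleGroup S]

theorem lie_dvd (hna : ¬ IsMulCommutative S) {g : Grp} {X : Art.Sh} {p f : ℕ} (hg : IsLie g X p f)
    (h : OrdDiv.Real g S) (hr : Art.Real X p f (Nat.card S)) :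
    Nat.card (MulAut S) ∣ 24 * f * ((p ^ f) ^ Art.NN X * Art.num X (p ^ f)) := by
  obtain ⟨c, h1, ⟨d, h2⟩, -⟩ := H364.OutLie.card_out (not_comm hna) hg h hr
  rw [← H934.OutB.card_out_mul S hna, h1, ← hr.eq]
  refine ⟨d, ?_⟩
  calc 24 * f * (Art.dd X (p ^ f) * Nat.card S) = (24 * Art.dd X (p ^ f)) * f * Nat.card S := by ring
    _ = c * d * f * Nat.card S := by rw [h2]
    _ = c * f * Nat.card S * d := by ring

theorem aut_L (hna : ¬ IsMulCommutative S) {n p f q : ℕ} (hp : p.Prime) (hf : 1 ≤ f) (hq : p ^ f = q) (hn : 2 ≤ n)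
    (hn2 : n = 2 → 4 ≤ p ^ f) (h : IsL n q S)
    (hB : 24 * f * ((p ^ f) ^ (n * (n - 1) / 2) * ∏ i ∈ Finset.range (n - 1), ((p ^ f) ^ (i + 2) - 1)) ∣ BB) :
    Nat.card (MulAut S) ∣ BB := by
  subst hq
  obtain ⟨K, iK, iKf, hK, ⟨e⟩⟩ := h
  refine (lie_dvd hna (.psl n p f) ⟨K, iK, iKf, hK, ⟨e⟩⟩ ?_).trans hB
  rw [Nat.card_congr e.toEquiv]
  exact psl_real hp hf hK hn hn2

theorem aut_U (hna : ¬ IsMulCommutative S) {n p f q : ℕ} (hp : p.Prime) (hf : 1 ≤ f) (hq : p ^ f = q) (hn : 3 ≤ n)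
    (hn2 : ¬ (n = 3 ∧ p ^ f = 2)) (h : IsU n q S)
    (hB : 24 * f * ((p ^ f) ^ (n * (n - 1) / 2) *
      ∏ i ∈ Finset.range (n - 1), (if Even i then (p ^ f) ^ (i + 2) - 1 else (p ^ f) ^ (i + 2) + 1)) ∣ BB) :
    Nat.card (MulAut S) ∣ BB := by
  subst hq
  obtain ⟨K, iK, iKf, hK, ⟨e⟩⟩ := h
  refine (lie_dvd hna (.psu n p f) ⟨K, iK, iKf, hK, ⟨e⟩⟩ ?_).trans hB
  rw [Nat.card_congr e.toEquiv]
  exact psu_real hp hf hK hn hn2

theorem aut_S (hna : ¬ IsMulCommutative S) {n p f q : ℕ} (hp : p.Prime) (hf : 1 ≤ f) (hq : p ^ f = q) (hn : 2 ≤ n)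
    (hn2 : n = 2 → 3 ≤ p ^ f) (h : IsS n q S)
    (hB : 24 * f * ((p ^ f) ^ (n ^ 2) * ∏ i ∈ Finset.range n, ((p ^ f) ^ (2 * (i + 1)) - 1)) ∣ BB) :
    Nat.card (MulAut S) ∣ BB := by
  subst hq
  obtain ⟨K, iK, iKf, hK, ⟨e⟩⟩ := h
  refine (lie_dvd hna (.psp n p f) ⟨K, iK, iKf, hK, ⟨e⟩⟩ ?_).trans hB
  rw [Nat.card_congr e.toEquiv]
  exact psp_real hp hf hK hn hn2

theorem aut_OP (hna : ¬ IsMulCommutative S) {n p f q : ℕ} (hp : p.Prime) (hf : 1 ≤ f) (hq : p ^ f = q) (hn : 4 ≤ n)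
    (h : IsOP n q S)
    (hB : 24 * f * ((p ^ f) ^ (n * (n - 1)) *
      (((p ^ f) ^ n - 1) * ∏ i ∈ Finset.range (n - 1), ((p ^ f) ^ (2 * (i + 1)) - 1))) ∣ BB) :
    Nat.card (MulAut S) ∣ BB := by
  subst hq
  obtain ⟨K, iK, iKf, hK, ⟨e⟩⟩ := h
  refine (lie_dvd hna (.oplus n p f) ⟨K, iK, iKf, hK, ⟨e⟩⟩ ?_).trans hB
  rw [Nat.card_congr e.toEquiv]
  exact oplus_real hp hf hK hn

theorem aut_G (hna : ¬ IsMulCommutative S) (h : H912.Bd.IsG2 4 S) : Nat.card (MulAut S) ∣ BB := by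
  obtain ⟨K, iK, iKf, hK, ⟨e⟩⟩ := h
  have h1 := OrdDiv.table.{0}.g2 K
  rw [hK, ← Nat.card_congr e.toEquiv] at h1
  have h2 : Art.Real .G2 2 2 (Nat.card S) := ⟨Nat.prime_two, by norm_num, show 3 ≤ 2 ^ 2 by norm_num, by
    rw [h1]; rfl⟩
  refine (lie_dvd hna (.g2 2 2) ⟨K, iK, iKf, hK, ⟨e⟩⟩ h2).trans ?_
  change 24 * 2 * ((2 ^ 2) ^ 6 * (((2 ^ 2) ^ 2 - 1) * ((2 ^ 2) ^ 6 - 1))) ∣ BB
  unfold BB
  norm_num

theorem aut_Sz (hna : ¬ IsMulCommutative S) (h : IsSz8 S) : Nat.card (MulAut S) ∣ BB := by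
  obtain ⟨K, iK, iKf, hK, ⟨e⟩⟩ := h
  have h1 := OrdDiv.table.{0}.sz K 1 le_rfl hK
  have h2 : Nat.card S = Nat.card ↥(Lie.Sz K (2 ^ (1 + 1))) := Nat.card_congr e.toEquiv
  rw [h1] at h2
  have h3 : Art.Real .Sz 2 3 (Nat.card S) := ⟨Nat.prime_two, by norm_num, ⟨rfl, by decide, le_rfl⟩, by
    rw [h2]; rfl⟩
  refine (lie_dvd hna (.sz 2 3) ⟨K, iK, iKf, 1, le_rfl, hK, rfl, ⟨e⟩⟩ h3).trans ?_
  change 24 * 3 * ((2 ^ 3) ^ 2 * ((2 ^ 3 - 1) * ((2 ^ 3) ^ 2 + 1))) ∣ BB
  unfold BB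
  norm_num

theorem fac_dvd : Nat.factorial 13 ∣ BB := by
  have : Nat.factorial 13 = 6227020800 := by decide
  rw [this]
  unfold BB
  norm_num

omit [Finite S] [IsSimpleGroup S] in
theorem aut_A {m : ℕ} (h5 : 5 ≤ m) (h13 : m ≤ 13) (e : S ≃* alternatingGroup (Fin m)) :
    Nat.card (MulAut S) ∣ BB := by
  rw [Nat.card_congr (MulAut.congr e).toEquiv]
  by_cases h6 : m = 6
  · subst h6
    rw [H824.ProdLem.card_aut_a6]
    unfold BB
    norm_num
  · rw [← Nat.card_congr (Equiv.ofBijective _ (S2119.result m (by omega) h6)), Nat.card_eq_fintype_card,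
      Fintype.card_perm, Fintype.card_fin]
    exact (Nat.factorial_dvd_factorial h13).trans fac_dvd

theorem aut_spor (hna : ¬ IsMulCommutative S) (hs : IsSporadicGroup S) {x : Grp × ℕ} (hx : x ∈ OrdDiv.spor)
    (hr : OrdDiv.Real x.1 S) (hB : 2 * x.2 ∣ BB) : Nat.card (MulAut S) ∣ BB := by
  have h1 := OrdDiv.table.spor S x hx hr
  have h2 : Nat.card (Cfsg.Out S) ≤ 2 := H498.SporOut.index_le_two hs
  have h3 : 0 < Nat.card (Cfsg.Out S) := Nat.card_pos
  rw [← H934.OutB.card_out_mul S hna, h1]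
  refine (Nat.mul_dvd_mul ?_ (dvd_refl _)).trans hB
  interval_cases Nat.card (Cfsg.Out S) <;> norm_num

theorem aut_SporC (hna : ¬ IsMulCommutative S) (h : SporC S) : Nat.card (MulAut S) ∣ BB := by
  unfold SporC at h
  rcases h with h | h | h | h | h | h | h | h | h
  · exact aut_spor hna (by unfold IsSporadicGroup; simp only [h, true_or, or_true]) (x := (.m11, 7920)) (by simp only [spor, _root_.List.mem_cons, _root_.Prod.mk.injEq, _root_.reduceCtorEq, _root_.Nat.reduceEqDiff, _root_.and_self, _root_.List.not_mem_nil, _root_.or_self, _root_.or_false, _root_.or_true]) h (by unfold BB; norm_num)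
  · exact aut_spor hna (by unfold IsSporadicGroup; simp only [h, true_or, or_true]) (x := (.m12, 95040)) (by simp only [spor, _root_.List.mem_cons, _root_.Prod.mk.injEq, _root_.reduceCtorEq, _root_.Nat.reduceEqDiff, _root_.and_self, _root_.List.not_mem_nil, _root_.or_self, _root_.or_false, _root_.or_true]) h (by unfold BB; norm_num)
  · exact aut_spor hna (by unfold IsSporadicGroup; simp only [h, true_or, or_true]) (x := (.m22, 443520)) (by simp only [spor, _root_.List.mem_cons, _root_.Prod.mk.injEq, _root_.reduceCtorEq, _root_.Nat.reduceEqDiff, _root_.and_self, _root_.List.not_mem_nil, _root_.or_self, _root_.or_false, _root_.or_true]) h (by unfold BB; norm_num)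
  · exact aut_spor hna (by unfold IsSporadicGroup; simp only [h, true_or, or_true]) (x := (.m23, 10200960)) (by simp only [spor, _root_.List.mem_cons, _root_.Prod.mk.injEq, _root_.reduceCtorEq, _root_.Nat.reduceEqDiff, _root_.and_self, _root_.List.not_mem_nil, _root_.or_self, _root_.or_false, _root_.or_true]) h (by unfold BB; norm_num)
  · exact aut_spor hna (by unfold IsSporadicGroup; simp only [h, true_or, or_true]) (x := (.m24, 244823040)) (by simp only [spor, _root_.List.mem_cons, _root_.Prod.mk.injEq, _root_.reduceCtorEq, _root_.Nat.reduceEqDiff, _root_.and_self, _root_.List.not_mem_nil, _root_.or_self, _root_.or_false, _root_.or_true]) h (by unfold BB; norm_num)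
  · exact aut_spor hna (by unfold IsSporadicGroup; simp only [h, true_or, or_true]) (x := (.j1, 175560)) (by simp only [spor, _root_.List.mem_cons, _root_.Prod.mk.injEq, _root_.reduceCtorEq, _root_.Nat.reduceEqDiff, _root_.and_self, _root_.List.not_mem_nil, _root_.or_self, _root_.or_false, _root_.or_true]) h (by unfold BB; norm_num)
  · exact aut_spor hna (by unfold IsSporadicGroup; simp only [h, true_or, or_true]) (x := (.j2, 604800)) (by simp only [spor, _root_.List.mem_cons, _root_.Prod.mk.injEq, _root_.reduceCtorEq, _root_.Nat.reduceEqDiff, _root_.and_self, _root_.List.not_mem_nil, _root_.or_self, _root_.or_false, _root_.or_true]) h (by unfold BB; norm_num)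
  · exact aut_spor hna (by unfold IsSporadicGroup; simp only [h, true_or, or_true]) (x := (.j3, 50232960)) (by simp only [spor, _root_.List.mem_cons, _root_.Prod.mk.injEq, _root_.reduceCtorEq, _root_.Nat.reduceEqDiff, _root_.and_self, _root_.List.not_mem_nil, _root_.or_self, _root_.or_false, _root_.or_true]) h (by unfold BB; norm_num)
  · exact aut_spor hna (by unfold IsSporadicGroup; simp only [h, true_or, or_true]) (x := (.suz, 448345497600)) (by simp only [spor, _root_.List.mem_cons, _root_.Prod.mk.injEq, _root_.reduceCtorEq, _root_.Nat.reduceEqDiff, _root_.and_self, _root_.List.not_mem_nil, _root_.or_self, _root_.or_false, _root_.or_true]) h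
      (by unfold BB; norm_num)

theorem aut_L2 (hna : ¬ IsMulCommutative S) {q : ℕ} (hq : q ∈ ({7, 8, 11, 13, 17, 19, 23, 25} : Finset ℕ))
    (hle : (q - 1) / Nat.gcd 2 (q - 1) ≤ 8) (h : IsL 2 q S) : Nat.card (MulAut S) ∣ BB := by
  simp only [Finset.mem_insert, Finset.mem_singleton] at hq
  rcases hq with rfl | rfl | rfl | rfl | rfl | rfl | rfl | rfl
  · exact aut_L hna (p := 7) (f := 1) (by norm_num) le_rfl (by norm_num) le_rfl (fun _ => by norm_num) h
      (by unfold BB; simp only [Finset.prod_range_succ, Finset.prod_range_zero]; norm_num)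
  · exact aut_L hna (p := 2) (f := 3) (by norm_num) (by norm_num) (by norm_num) le_rfl (fun _ => by norm_num) h
      (by unfold BB; simp only [Finset.prod_range_succ, Finset.prod_range_zero]; norm_num)
  · exact aut_L hna (p := 11) (f := 1) (by norm_num) le_rfl (by norm_num) le_rfl (fun _ => by norm_num) h
      (by unfold BB; simp only [Finset.prod_range_succ, Finset.prod_range_zero]; norm_num)
  · exact aut_L hna (p := 13) (f := 1) (by norm_num) le_rfl (by norm_num) le_rfl (fun _ => by norm_num) h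
      (by unfold BB; simp only [Finset.prod_range_succ, Finset.prod_range_zero]; norm_num)
  · exact aut_L hna (p := 17) (f := 1) (by norm_num) le_rfl (by norm_num) le_rfl (fun _ => by norm_num) h
      (by unfold BB; simp only [Finset.prod_range_succ, Finset.prod_range_zero]; norm_num)
  · norm_num at hle
  · norm_num at hle
  · norm_num at hle

theorem aut_LieC (hna : ¬ IsMulCommutative S) {p : ℕ} (h : LieC p 8 S) : Nat.card (MulAut S) ∣ BB := by
  rcases h with ⟨q, hq, -, h2, h3⟩ | ⟨-, -, h⟩ | ⟨-, -, h⟩ | ⟨-, h, -⟩ | ⟨-, -, -, h⟩ | ⟨-, -, h⟩ | ⟨-, h, -⟩ |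
    ⟨-, -, h⟩ | ⟨-, -, h⟩
  · exact aut_L2 hna hq h2 h3
  · exact aut_L hna (p := 3) (f := 1) (by norm_num) le_rfl (by norm_num) (by norm_num) (by norm_num) h
      (by unfold BB; simp only [Finset.prod_range_succ, Finset.prod_range_zero]; norm_num)
  · exact aut_U hna (p := 3) (f := 1) (by norm_num) le_rfl (by norm_num) le_rfl (by norm_num) h
      (by unfold BB; simp only [Finset.prod_range_succ, _root_.mul_one, _root_.pow_one, _root_.Nat.add_one_sub_one, _root_.Nat.reduceMul, _root_.Nat.reduceDiv, _root_.Nat.reducePow, _root_.Finset.range_one, _root_.Finset.prod_singleton, _root_.Even.zero, ↓ _root_.reduceIte, _root_.zero_add, _root_.Nat.not_even_one, _root_.Nat.reduceAdd, _root_.Nat.reduceDvd])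
  · omega
  · exact aut_U hna (p := 2) (f := 1) (by norm_num) le_rfl (by norm_num) (by norm_num) (by norm_num) h
      (by unfold BB; simp only [show 4 - 1 = 3 from rfl, Finset.prod_range_succ, Finset.prod_range_zero]; norm_num [Nat.even_iff])
  · exact aut_U hna (p := 2) (f := 1) (by norm_num) le_rfl (by norm_num) (by norm_num) (by norm_num) h
      (by unfold BB; simp only [show 5 - 1 = 4 from rfl, Finset.prod_range_succ, Finset.prod_range_zero]; norm_num [Nat.even_iff])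
  · omega
  · exact aut_S hna (p := 2) (f := 1) (by norm_num) le_rfl (by norm_num) (by norm_num) (by norm_num) h
      (by unfold BB; simp only [Finset.prod_range_succ, Finset.prod_range_zero]; norm_num)
  · exact aut_OP hna (p := 2) (f := 1) (by norm_num) le_rfl (by norm_num) (by norm_num) h
      (by unfold BB; simp only [Finset.prod_range_succ, Finset.prod_range_zero]; norm_num)

theorem aut_MultD (hna : ¬ IsMulCommutative S) {p : ℕ} (h : MultD p 8 S) : Nat.card (MulAut S) ∣ BB := by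
  rcases h with ⟨-, -, h⟩ | ⟨-, h, -⟩
  · rcases h with h | h | ⟨-, h⟩ | h | h | h
    · exact aut_L2 hna (q := 7) (by simp only [_root_.Finset.mem_insert, _root_.Nat.reduceEqDiff, _root_.Finset.mem_singleton, _root_.or_self, _root_.or_false]) (by norm_num) h
    · exact aut_L hna (p := 2) (f := 2) (by norm_num) (by norm_num) (by norm_num) (by norm_num) (by norm_num) h
        (by unfold BB; simp only [Finset.prod_range_succ, Finset.prod_range_zero]; norm_num)
    · exact aut_U hna (p := 2) (f := 1) (by norm_num) le_rfl (by norm_num) (by norm_num) (by norm_num) h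
        (by unfold BB; simp only [show 4 - 1 = 3 from rfl, Finset.prod_range_succ, Finset.prod_range_zero]; norm_num [Nat.even_iff])
    · exact aut_S hna (p := 2) (f := 1) (by norm_num) le_rfl (by norm_num) (by norm_num) (by norm_num) h
        (by unfold BB; simp only [Finset.prod_range_succ, Finset.prod_range_zero]; norm_num)
    · exact aut_OP hna (p := 2) (f := 1) (by norm_num) le_rfl (by norm_num) (by norm_num) h
        (by unfold BB; simp only [Finset.prod_range_succ, Finset.prod_range_zero]; norm_num)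
    · exact aut_G hna h
  · omega

end

/-- **The automorphism groups of the candidates in degree 8.** -/
theorem aut_dvd {F : Type u} [Field F] [Finite F] {p : ℕ} [CharP F p] [hp : Fact p.Prime]
    {P : Subgroup (GL (Fin 8) F)} (hC : Core P) (hk : IsKnownSimple' (Soc P)) (hL : ¬ IsLieTypeChar p (Soc P)) :
    Nat.card (MulAut (Soc P)) ∣ BB := by
  have hs : IsSimpleGroup (Soc P) := hC.simple
  have hna : ¬ IsMulCommutative (Soc P) := hC.nonabelian
  have : Finite (Soc P) := inferInstance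
  rcases list₁ (p := p) (n := 8) (by norm_num) hC hk hL with (h | h | h | h | h) | h
  · obtain ⟨m, h5, h14, -, -, h12, ⟨e⟩⟩ := h
    exact aut_A h5 (by by_contra hc; have := h12 (by omega); omega) e
  · exact aut_LieC hna h
  · exact aut_MultD hna h
  · exact aut_Sz hna h.2.2
  · exact aut_SporC hna h
  · exfalso
    obtain ⟨-, ⟨⟨e⟩⟩ | ⟨⟨e⟩⟩ | ⟨⟨e⟩⟩ | ⟨⟨e⟩⟩⟩ := h
    · have := H806.Ls.fi22_le hp.out hC e
      omega
    · have := H806.Ls.fi23_le hp.out hC e
      omega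
    · have := H806.Ls.b_le hp.out hC e
      omega
    · have := H806.Ls.m_le hp.out hC e
      omega

section
variable {F : Type} [Field F] [Fintype F] {p a r b : ℕ}

theorem charP_of (hp : p.Prime) (ha : 1 ≤ a) (hF : Nat.card F = p ^ a) : CharP F p := by
  rw [Nat.card_eq_fintype_card] at hF
  exact H936.List12.charP_of_dvd hp (by rw [hF]; exact dvd_pow_self p (by omega))

/-- **R2: cross characteristic, `q ≥ 4`** -/
theorem cross_card (hF : Nat.card F = p ^ a) (h4 : 4 ≤ p ^ a) (h : RB p a r b)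
    {R : Subgroup (T8 F)} (S : Subgroup R) [S.Normal] (_hS : IsSimpleGroup S) (_hna : ¬ IsMulCommutative S)
    (hC : Subgroup.centralizer (S : Set R) = ⊥) {P : Subgroup (GL H708.O8.I8 F)}
    (hP : IsResidualCore (pre (quadFormPlus 4 F) R) P) (e : S ≃* Soc P) (hL : ¬ IsLieTypeChar p (Soc P))
    (hk : IsKnownSimple' (Soc P)) : ¬ r ^ (b + 1) ∣ Nat.card R := by
  have := charP_of h.hp h.ha hF
  have := Fact.mk h.hp
  let ix : H708.O8.I8 ≃ Fin 8 := finSumFinEquiv
  have hC' := H936.Reix.core_rx ix (core_of_residual hP)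
  have e' := H936.Reix.socEquiv ix P
  refine not_dvd h h4 ((dvd_aut S hC).trans ?_)
  rw [Nat.card_congr (MulAut.congr (e.trans e')).toEquiv]
  exact aut_dvd (p := p) hC'
    (OddHalf.Known.isKnownSimple'_congr e' (core_of_residual hP).nonabelian hk)
    (fun h => hL (OddHalf.Known.isLieTypeChar_congr e'.symm h))

end

end Cfsg.Agent.H105.O8
end
end
end
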